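import Mathlib
import Cfsg.Agent.Lib.Forms.Max.OrthBase

/-!
# Orthogonal spaces over an extension field of prime degree

`Vec` carries a vector space structure over a field `K` of prime degree over `F` for which the polar form is
`K`-balanced.  The `K`-valued symmetric form, singular vectors, and the `K`-linear Eichler elements.
-/

set_option autoImplicit false
set_option linter.unusedSectionVars false

namespace Cfsg.Agent.Forms.Max.OrthExtField

open Matrix Cfsg.Agent.Forms.QuadStd Cfsg.Agent.Forms.Reflections Cfsg.Agent.Classical.Orth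

variable {F : Type*} [Field F] [Fintype F] {ι : Type} [Fintype ι] [DecidableEq ι]
variable {K : Type*} [Field K] [Algebra F K] [FiniteDimensional F K]
variable [Module K (ι → F)] [IsScalarTower F K (ι → F)]
variable {Q : QuadraticForm F (ι → F)}

local notation "Vec" => (ι → F)
local notation "B" => QuadraticMap.polar Q
set_option quotPrecheck false in
local notation "Iso" => Cfsg.isometryGroup F ⇑Q

/-- a balanced structure over an extension field of prime degree -/
structure Data {F : Type*} [Field F] {ι : Type} [Fintype ι] [DecidableEq ι] (K : Type*) [Field K] [Algebra F K]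
    [Module K (ι → F)] (Q : QuadraticForm F (ι → F)) where
  χ : K →ₗ[F] F
  hχ : χ ≠ 0
  hr : (Module.finrank F K).Prime
  h2 : (2 : F) ≠ 0
  hQ : (QuadraticMap.polarBilin Q).Nondegenerate
  hd : 3 ≤ Module.finrank K (ι → F)
  hn : 8 ≤ Fintype.card ι
  hadj : ∀ (k : K) (x y : ι → F), QuadraticMap.polar Q (k • x) y = QuadraticMap.polar Q x (k • y)

variable (D : Data K Q)

/-- the pairing of `K` with its dual -/
noncomputable def dual : K ≃ₗ[F] Module.Dual F K :=
  LinearEquiv.ofBijective ((LinearMap.mul F K).compr₂ D.χ) (by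
    have hinj : Function.Injective ((LinearMap.mul F K).compr₂ D.χ) := by
      rw [← LinearMap.ker_eq_bot, LinearMap.ker_eq_bot']
      intro a ha
      by_contra h
      refine D.hχ (LinearMap.ext fun k => ?_)
      have := LinearMap.congr_fun ha (a⁻¹ * k)
      rwa [LinearMap.compr₂_apply, LinearMap.mul_apply', mul_inv_cancel_left₀ h, LinearMap.zero_apply] at this
    exact ⟨hinj, (LinearMap.injective_iff_surjective_of_finrank_eq_finrank Subspace.dual_finrank_eq.symm).1 hinj⟩)

theorem dual_apply (a k : K) : dual D a k = D.χ (a * k) := rfl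

theorem chi_ext {a b : K} (h : ∀ k : K, D.χ (k * a) = D.χ (k * b)) : a = b :=
  (dual D).injective (LinearMap.ext fun k => by rw [dual_apply, dual_apply, mul_comm, h, mul_comm])

theorem exists_dual (φ : K →ₗ[F] F) : ∃ a : K, ∀ k, φ k = D.χ (a * k) := by
  obtain ⟨a, ha⟩ := (dual D).surjective φ
  exact ⟨a, fun k => by rw [← ha, dual_apply]⟩

theorem chi_smul (s : F) (k : K) : D.χ (s • k) = s * D.χ k := by rw [map_smul, smul_eq_mul]

/-- the `K`-valued form, as a function -/
noncomputable def fFun (x y : ι → F) : K :=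
  (dual D).symm (((polB Q).flip y).comp ((LinearMap.toSpanSingleton K _ x).restrictScalars F))

theorem fFun_spec (k : K) (x y : Vec) : D.χ (k * fFun D x y) = B (k • x) y := by
  rw [mul_comm, ← dual_apply, fFun, LinearEquiv.apply_symm_apply]
  rfl

/-- the `K`-valued form -/
noncomputable def β : (ι → F) →ₗ[K] (ι → F) →ₗ[K] K :=
  LinearMap.mk₂ K (fFun D)
    (fun x x' y => chi_ext D fun k => by
      rw [mul_add, map_add, fFun_spec, fFun_spec, fFun_spec, smul_add, QuadraticMap.polar_add_left])
    (fun c x y => chi_ext D fun k => by rw [fFun_spec, smul_eq_mul, ← mul_assoc, fFun_spec, smul_smul])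
    (fun x y y' => chi_ext D fun k => by
      rw [mul_add, map_add, fFun_spec, fFun_spec, fFun_spec, QuadraticMap.polar_add_right])
    (fun c x y => chi_ext D fun k => by
      rw [fFun_spec, smul_eq_mul, ← mul_assoc, fFun_spec, ← D.hadj, smul_smul, mul_comm])

theorem spec (k : K) (x y : Vec) : D.χ (k * β D x y) = B (k • x) y := fFun_spec D k x y

theorem spec' (k : K) (x y : Vec) : D.χ (k * β D x y) = B x (k • y) := by rw [spec, D.hadj]

theorem B_eq (x y : Vec) : B x y = D.χ (β D x y) := by
  have := spec D 1 x y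
  rwa [one_mul, one_smul, eq_comm] at this

theorem β_comm (x y : Vec) : β D x y = β D y x :=
  chi_ext D fun k => by rw [spec, spec', QuadraticMap.polar_comm]

theorem β_ext {x : Vec} (h : ∀ y, β D x y = 0) : x = 0 :=
  D.hQ.1 x fun y => by
    show B x y = 0
    rw [B_eq D, h, map_zero]

/-- simp set for the form -/
theorem β_add (x y z : Vec) : β D (x + y) z = β D x z + β D y z := by rw [map_add, LinearMap.add_apply]

include D in
theorem two_ne : (2 : K) ≠ 0 := by
  rw [← map_ofNat (algebraMap F K) 2]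
  exact (map_ne_zero _).2 D.h2

theorem sing_of_β {x : Vec} (h : β D x x = 0) : Q x = 0 := by
  have := B_eq D x x
  rw [h, map_zero, polar_self'] at this
  exact (mul_eq_zero.1 this).resolve_left D.h2

include D in
theorem two_le_r : 2 ≤ Module.finrank F K := D.hr.two_le

theorem subalgebra_eq_bot {X : Subalgebra F K} (hX : X ≠ ⊤) (hr : (Module.finrank F K).Prime) : X = ⊥ :=
  ((Subalgebra.isSimpleOrder_of_finrank_prime F K hr).eq_bot_or_eq_top X).resolve_right hX

/-! ### subspaces over `K` -/

/-- non-degenerate for the `K`-form -/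
def Nd (S : Submodule K (ι → F)) : Prop := ∀ r ∈ S, r ≠ 0 → ∃ s ∈ S, β D r s ≠ 0

theorem exists_ker {S : Submodule K Vec} {j : ℕ} (f : Fin j → Vec) (h : j < Module.finrank K S) :
    ∃ x ∈ S, x ≠ 0 ∧ ∀ i, β D (f i) x = 0 := by
  haveI : FiniteDimensional K Vec := Module.Finite.right F K Vec
  let Φ : S →ₗ[K] (Fin j → K) := LinearMap.pi fun i => (β D (f i)).comp S.subtype
  have hk : Φ.ker ≠ ⊥ := fun hb => by
    have := Φ.finrank_range_add_finrank_ker
    rw [hb, finrank_bot, add_zero] at this
    have h2 := Submodule.finrank_le (LinearMap.range Φ)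
    rw [Module.finrank_pi, Fintype.card_fin] at h2
    omega
  obtain ⟨x, hx, hx0⟩ := (Submodule.ne_bot_iff _).1 hk
  exact ⟨x, x.2, fun e => hx0 (Subtype.ext e), fun i => congrFun hx i⟩

/-- the orthogonal of finitely many vectors -/
noncomputable def orth {j : ℕ} (f : Fin j → (ι → F)) : Submodule K (ι → F) := ⨅ i, LinearMap.ker (β D (f i))

theorem mem_orth {j : ℕ} {f : Fin j → Vec} {x : Vec} : x ∈ orth D f ↔ ∀ i, β D (f i) x = 0 := by
  simp [orth, Submodule.mem_iInf]

theorem finrank_orth {j : ℕ} (f : Fin j → Vec) : Module.finrank K Vec ≤ Module.finrank K (orth D f) + j := by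
  haveI : FiniteDimensional K Vec := Module.Finite.right F K Vec
  let Φ : Vec →ₗ[K] (Fin j → K) := LinearMap.pi fun i => β D (f i)
  have h := Φ.finrank_range_add_finrank_ker
  have h2 := Submodule.finrank_le (LinearMap.range Φ)
  rw [Module.finrank_pi, Fintype.card_fin] at h2
  have e : Φ.ker = orth D f := by
    ext x
    rw [mem_orth, LinearMap.mem_ker, funext_iff]
    rfl
  rw [e] at h
  omega

theorem exists_iso {S : Submodule K Vec} (h : 3 ≤ Module.finrank K S) : ∃ x ∈ S, x ≠ 0 ∧ β D x x = 0 := by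
  haveI : Finite K := Module.finite_of_finite F
  haveI : Fintype K := Fintype.ofFinite K
  obtain ⟨x, hx, hx0, -⟩ := exists_ker D (S := S) (fun i : Fin 0 => i.elim0) (by omega)
  by_cases hxx : β D x x = 0
  · exact ⟨x, hx, hx0, hxx⟩
  obtain ⟨y, hy, hy0, hxy⟩ := exists_ker D (S := S) ![x] (by omega)
  have exy : β D x y = 0 := hxy 0
  by_cases hyy : β D y y = 0
  · exact ⟨y, hy, hy0, hyy⟩
  obtain ⟨z, hz, hz0, hxz⟩ := exists_ker D (S := S) ![x, y] (by omega)
  have exz : β D x z = 0 := hxz 0
  have eyz : β D y z = 0 := hxz 1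
  by_cases hzz : β D z z = 0
  · exact ⟨z, hz, hz0, hzz⟩
  obtain ⟨a, b, hab⟩ := FiniteField.exists_root_sum_quadratic
    (f := Polynomial.C (β D x x) * Polynomial.X ^ 2 + Polynomial.C (β D z z))
    (g := Polynomial.C (β D y y) * Polynomial.X ^ 2)
    (by compute_degree!) (by compute_degree!)
    (FiniteField.odd_card_of_char_ne_two fun hc => two_ne D (by
      have : CharP K 2 := hc ▸ ringChar.charP K
      exact CharTwo.two_eq_zero))
  simp only [Polynomial.eval_add, Polynomial.eval_mul, Polynomial.eval_C, Polynomial.eval_pow,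
    Polynomial.eval_X] at hab
  refine ⟨a • x + b • y + z, S.add_mem (S.add_mem (S.smul_mem a hx) (S.smul_mem b hy)) hz, fun e => ?_, ?_⟩
  · have := congrArg (fun v => β D v z) e
    simp [exz, eyz, hzz] at this
  · simp only [map_add, map_smul, LinearMap.add_apply, LinearMap.smul_apply, smul_eq_mul, exy, exz, eyz,
      β_comm D y x, β_comm D z x, β_comm D z y, mul_zero, add_zero, zero_add]
    linear_combination hab

theorem exists_pair_in {S : Submodule K Vec} (hS : Nd D S) {w : Vec} (hwS : w ∈ S) (hw0 : w ≠ 0)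
    (hw : β D w w = 0) : ∃ p ∈ S, β D p p = 0 ∧ β D w p = 1 := by
  obtain ⟨s, hs, hne⟩ := hS w hwS hw0
  set y := (β D w s)⁻¹ • s with hy
  have hwy : β D w y = 1 := by rw [hy, map_smul, smul_eq_mul, inv_mul_cancel₀ hne]
  refine ⟨y - (β D y y / 2) • w, S.sub_mem (S.smul_mem _ hs) (S.smul_mem _ hwS), ?_, ?_⟩
  · simp only [map_sub, map_smul, LinearMap.sub_apply, LinearMap.smul_apply, smul_eq_mul, hw, hwy,
      β_comm D y w, mul_one, mul_zero, sub_zero]
    linear_combination (div_mul_cancel₀ (β D y y) (two_ne D)).symm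
  · simp only [map_sub, map_smul, smul_eq_mul, hw, hwy, mul_zero, sub_zero]

/-- singular vectors span -/
theorem sing_span {S T : Submodule K Vec} (hS : Nd D S) (h3 : 3 ≤ Module.finrank K S)
    (hT : ∀ v ∈ S, β D v v = 0 → v ∈ T) : S ≤ T := by
  obtain ⟨w, hw, hw0, hww⟩ := exists_iso D h3
  obtain ⟨p, hp, hpp, hwp⟩ := exists_pair_in D hS hw hw0 hww
  intro x hx
  set g := x - β D x p • w - β D x w • p with hg
  have hgS : g ∈ S := S.sub_mem (S.sub_mem hx (S.smul_mem _ hw)) (S.smul_mem _ hp)
  have hgw : β D g w = 0 := by simp [hg, hww, hwp, β_comm D p w]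
  have hgp : β D g p = 0 := by simp [hg, hpp, hwp]
  have h1 : g + (-(β D g g / 2)) • w + p ∈ T := by
    refine hT _ (S.add_mem (S.add_mem hgS (S.smul_mem _ hw)) hp) ?_
    simp only [map_add, map_smul, LinearMap.add_apply, LinearMap.smul_apply, smul_eq_mul, hgw, hgp, hww, hpp, hwp,
      β_comm D p w, β_comm D w g, β_comm D p g, mul_zero, add_zero, zero_add, mul_one]
    linear_combination -(div_mul_cancel₀ (β D g g) (two_ne D))
  have e1 : x = (g + (-(β D g g / 2)) • w + p) + (β D x p + β D g g / 2) • w + (β D x w - 1) • p := by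
    rw [hg]; module
  rw [e1]
  exact T.add_mem (T.add_mem h1 (T.smul_mem _ (hT w hw hww))) (T.smul_mem _ (hT p hp hpp))

theorem exists_sing_meet {S : Submodule K Vec} (hS : Nd D S) (h3 : 3 ≤ Module.finrank K S) {x : Vec}
    (hx : ∃ s ∈ S, β D x s ≠ 0) : ∃ a ∈ S, β D a a = 0 ∧ β D x a ≠ 0 := by
  by_contra hc
  push Not at hc
  obtain ⟨s, hs, hxs⟩ := hx
  exact hxs (sing_span D hS h3 (T := LinearMap.ker (β D x)) (fun a ha haa => hc a ha haa) hs)

theorem nd_top : Nd D ⊤ := fun r _ hr => by
  by_contra hc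
  push Not at hc
  exact hr (β_ext D fun y => hc y trivial)

/-- a hyperbolic pair -/
def HPair (w p : ι → F) : Prop := β D w w = 0 ∧ β D p p = 0 ∧ β D w p = 1

theorem HPair.symm {w p : Vec} (h : HPair D w p) : HPair D p w := ⟨h.2.1, h.1, by rw [β_comm]; exact h.2.2⟩

theorem HPair.pw {w p : Vec} (h : HPair D w p) : β D p w = 1 := (HPair.symm D h).2.2

theorem HPair.ne {w p : Vec} (h : HPair D w p) : w ≠ 0 := fun e => by
  have := h.2.2
  rw [e, map_zero, LinearMap.zero_apply] at this
  exact zero_ne_one this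

theorem exists_pair {w : Vec} (hw0 : w ≠ 0) (hw : β D w w = 0) : ∃ p, HPair D w p := by
  obtain ⟨p, -, hp, hwp⟩ := exists_pair_in D (nd_top D) Submodule.mem_top hw0 hw
  exact ⟨p, hw, hp, hwp⟩

/-- the orthogonal of a pair -/
noncomputable def W (w p : ι → F) : Submodule K (ι → F) := orth D ![w, p]

theorem mem_W {w p x : Vec} : x ∈ W D w p ↔ β D w x = 0 ∧ β D p x = 0 := by
  rw [W, mem_orth, Fin.forall_fin_two]
  rfl

theorem two_le_W (w p : Vec) : Module.finrank K Vec ≤ Module.finrank K (W D w p) + 2 := finrank_orth D _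

/-- projection to the orthogonal of a pair -/
noncomputable def pr (w p x : ι → F) : ι → F := x - β D x p • w - β D x w • p

theorem pr_mem {w p : Vec} (h : HPair D w p) (x : Vec) : pr D w p x ∈ W D w p := by
  rw [mem_W, pr]
  simp [h.1, h.2.1, h.2.2, h.pw D, β_comm D w x, β_comm D p x]

theorem pr_add (w p x : Vec) : x = β D x p • w + pr D w p x + β D x w • p := by rw [pr]; abel

theorem nd_W {w p : Vec} (h : HPair D w p) : Nd D (W D w p) := by
  intro r hr hr0
  obtain ⟨h1, h2⟩ := (mem_W D).1 hr
  by_contra hc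
  push Not at hc
  refine hr0 (β_ext D fun y => ?_)
  rw [pr_add D w p y]
  simp only [map_add, map_smul, hc _ (pr_mem D h y), β_comm D r w, β_comm D r p, h1, h2, smul_zero, add_zero]

theorem exists_nonsing {w p : Vec} (h : HPair D w p) : ∃ x ∈ W D w p, β D x x ≠ 0 := by
  have hd := D.hd
  have h2 := two_le_W D w p
  obtain ⟨x, hx, hx0, -⟩ := exists_ker D (S := W D w p) (fun i : Fin 0 => i.elim0) (by omega)
  obtain ⟨s, hs, hxs⟩ := nd_W D h x hx hx0
  by_cases h1 : β D x x = 0
  swap
  · exact ⟨x, hx, h1⟩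
  by_cases h3 : β D s s = 0
  swap
  · exact ⟨s, hs, h3⟩
  refine ⟨x + s, add_mem hx hs, ?_⟩
  simp only [map_add, LinearMap.add_apply, h1, h3, β_comm D s x, add_zero, zero_add, ← two_mul]
  exact mul_ne_zero (two_ne D) hxs

/-- every value is taken on the orthogonal of a pair -/
theorem exists_value {w p : Vec} (h : HPair D w p) (h4 : 4 ≤ Module.finrank K Vec) (c : K) : ∃ v ∈ W D w p, β D v v = c := by
  haveI : Finite K := Module.finite_of_finite F
  haveI : Fintype K := Fintype.ofFinite K
  have h2 := two_le_W D w p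
  have hS := nd_W D h
  obtain ⟨x, hx, hxx⟩ := exists_nonsing D h
  obtain ⟨y, hy, hy0, hyx⟩ := exists_ker D (S := W D w p) ![x] (by omega)
  have exy : β D x y = 0 := hyx 0
  have hyy : β D y y ≠ 0 ∨ β D y y = 0 := (em _).symm
  rcases hyy with hyy | hyy
  · obtain ⟨a, b, hab⟩ := FiniteField.exists_root_sum_quadratic
      (f := Polynomial.C (β D x x) * Polynomial.X ^ 2 - Polynomial.C c)
      (g := Polynomial.C (β D y y) * Polynomial.X ^ 2)
      (by compute_degree!) (by compute_degree!)
      (FiniteField.odd_card_of_char_ne_two fun hc => two_ne D (by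
        have : CharP K 2 := hc ▸ ringChar.charP K
        exact CharTwo.two_eq_zero))
    simp only [Polynomial.eval_sub, Polynomial.eval_mul, Polynomial.eval_C, Polynomial.eval_pow,
      Polynomial.eval_X] at hab
    refine ⟨a • x + b • y, add_mem (Submodule.smul_mem _ a hx) (Submodule.smul_mem _ b hy), ?_⟩
    simp only [map_add, map_smul, LinearMap.add_apply, LinearMap.smul_apply, smul_eq_mul, exy, β_comm D y x,
      mul_zero, add_zero, zero_add]
    linear_combination hab
  · obtain ⟨t, ht, hyt⟩ := hS y hy hy0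
    refine ⟨t + ((c - β D t t) / (2 * β D y t)) • y, add_mem ht (Submodule.smul_mem _ _ hy), ?_⟩
    simp only [map_add, map_smul, LinearMap.add_apply, LinearMap.smul_apply, smul_eq_mul, hyy, β_comm D t y,
      mul_zero, add_zero]
    linear_combination div_mul_cancel₀ (c - β D t t) (mul_ne_zero (two_ne D) hyt)

/-! ### linear isometries and Eichler elements -/

theorem exists_iso_elem (L : Vec →ₗ[K] Vec) (hL : ∀ x y, β D (L x) (L y) = β D x y) :
    ∃ g : Iso, ∀ x, act g x = L x := by
  have hLinj : Function.Injective (L.restrictScalars F) := by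
    rw [← LinearMap.ker_eq_bot, LinearMap.ker_eq_bot']
    intro x hx
    refine β_ext D fun y => ?_
    rw [← hL, show L x = 0 from hx, map_zero, LinearMap.zero_apply]
  let Le := LinearEquiv.ofBijective (L.restrictScalars F) ⟨hLinj, LinearMap.injective_iff_surjective.1 hLinj⟩
  have hiso : ∀ x, Q (Le x) = Q x := fun x => by
    have h1 := B_eq D (L x) (L x)
    rw [hL, ← B_eq D, polar_self', polar_self'] at h1
    exact mul_left_cancel₀ D.h2 h1
  exact ⟨isoOfEquiv ⇑Q Le hiso, fun x => by rw [act_apply]; exact isoOfEquiv_mulVec _ _ _ _⟩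

/-- a `K`-linear Eichler transformation -/
noncomputable def elin (w v : ι → F) : (ι → F) →ₗ[K] (ι → F) :=
  LinearMap.id + ((β D).flip w).smulRight v - ((β D).flip v).smulRight w
    - ((β D v v / 2) • (β D).flip w).smulRight w

theorem elin_apply (w v x : Vec) :
    elin D w v x = x + β D x w • v - β D x v • w - (β D v v / 2 * β D x w) • w := by
  simp [elin]

theorem elin_iso {w v : Vec} (hw : β D w w = 0) (hv : β D w v = 0) (x y : Vec) :
    β D (elin D w v x) (elin D w v y) = β D x y := by
  simp only [elin_apply, map_add, map_sub, map_smul, LinearMap.add_apply, LinearMap.sub_apply, LinearMap.smul_apply,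
    smul_eq_mul, hw, hv, β_comm D v w, β_comm D w y, β_comm D v y]
  field_simp [two_ne D]
  ring

theorem elin_add {w v v' : Vec} (hw : β D w w = 0) (hv : β D w v = 0) (hv' : β D w v' = 0) (x : Vec) :
    elin D w v (elin D w v' x) = elin D w (v + v') x := by
  simp only [elin_apply, map_add, map_sub, map_smul, LinearMap.add_apply, LinearMap.sub_apply, LinearMap.smul_apply,
    smul_eq_mul, hw, hv, β_comm D v w, β_comm D v' w, hv', β_comm D v' v]
  match_scalars <;> field_simp [two_ne D] <;> ring

theorem elin_shift {w v : Vec} (hw : β D w w = 0) (hv : β D w v = 0) (c : K) (x : Vec) :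
    elin D w (v + c • w) x = elin D w v x := by
  simp only [elin_apply, map_add, map_smul, LinearMap.add_apply, LinearMap.smul_apply,
    smul_eq_mul, hw, hv, β_comm D v w]
  module

/-- the `K`-linear isometries in `Ω` belong to `M` -/
def LinM (M : Subgroup (Cfsg.isometryGroup F ⇑Q)) : Prop :=
  ∀ g ∈ Cfsg.Omega F ⇑Q, (∀ (k : K) (x : ι → F), act g (k • x) = k • act g x) → g ∈ M

variable {M : Subgroup (Cfsg.isometryGroup F ⇑Q)}

theorem lin_comm {g h : Iso} {L L' : Vec →ₗ[K] Vec} (hg : ∀ x, act g x = L x) (hh : ∀ x, act h x = L' x)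
    (k : K) (x : Vec) : act (g * h * g⁻¹ * h⁻¹) (k • x) = k • act (g * h * g⁻¹ * h⁻¹) x := by
  have inv : ∀ {g : Iso} {L : Vec →ₗ[K] Vec}, (∀ x, act g x = L x) → ∀ (k : K) x,
      act g⁻¹ (k • x) = k • act g⁻¹ x := fun {g L} hg k x => act_injective g (by
    rw [act_cancel_inv, hg (k • act g⁻¹ x), map_smul, ← hg, act_cancel_inv])
  rw [act_mul, act_mul, act_mul, act_mul, act_mul, act_mul, inv hh, inv hg, hh, map_smul, ← hh, hg, map_smul, ← hg]

/-- the Eichler elements occur -/
theorem exists_eichK (hM : LinM (K := K) M) {w v : Vec} (hw0 : w ≠ 0) (hw : β D w w = 0) (hv : β D w v = 0) :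
    ∃ g ∈ M, g ∈ Cfsg.Omega F ⇑Q ∧ ∀ x, act g x = elin D w v x := by
  haveI : Finite K := Module.finite_of_finite F
  haveI : Fintype K := Fintype.ofFinite K
  obtain ⟨p, hp⟩ := exists_pair D hw0 hw
  set a : K := 2 with ha
  have ha0 : a ≠ 0 := two_ne D
  -- the torus element
  obtain ⟨δ, hδ⟩ := exists_iso_elem D
    (LinearMap.id + ((a - 1) • (β D).flip p).smulRight w + ((a⁻¹ - 1) • (β D).flip w).smulRight p) fun x y => by
    simp only [LinearMap.add_apply, LinearMap.id_apply, LinearMap.smulRight_apply, LinearMap.smul_apply,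
      LinearMap.flip_apply, map_add, map_smul, smul_eq_mul, hw, hp.2.1, hp.2.2, hp.pw D, β_comm D w y, β_comm D p y]
    field_simp
    ring
  set v' := v - β D v p • w with hv'
  have hv'w : β D w v' = 0 := by simp [hv', hv, hw]
  have hv'p : β D v' p = 0 := by simp [hv', hp.2.2]
  obtain ⟨e, he⟩ := exists_iso_elem D (elin D w v') (elin_iso D hw hv'w)
  refine ⟨δ * e * δ⁻¹ * e⁻¹, ?_, ?_, fun x => ?_⟩
  · exact hM _ (Subgroup.commutator_mem_commutator (Subgroup.mem_top _) (Subgroup.mem_top _)) (lin_comm hδ he)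
  · exact Subgroup.commutator_mem_commutator (Subgroup.mem_top _) (Subgroup.mem_top _)
  obtain ⟨y, rfl⟩ : ∃ y, act e (act δ y) = x := ⟨act δ⁻¹ (act e⁻¹ x), by rw [act_cancel_inv, act_cancel_inv]⟩
  have ic : ∀ (g : Iso) z, act g⁻¹ (act g z) = z := fun g z => act_injective g (act_cancel_inv g _)
  rw [act_mul, act_mul, act_mul, ic, ic, he y, he (act δ y), hδ y, hδ]
  have e1 : ∀ z, elin D w v z = elin D w (v' + β D v p • w) z := fun z => by rw [hv', sub_add_cancel]
  rw [e1, elin_shift D hw hv'w, elin_add D hw hv'w hv'w]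
  simp only [LinearMap.add_apply, LinearMap.id_apply, LinearMap.smulRight_apply, LinearMap.smul_apply,
    LinearMap.flip_apply, elin_apply, map_add, map_sub, map_smul, LinearMap.sub_apply, smul_eq_mul, hw, hp.2.1,
    hp.2.2, hp.pw D, hv'w, hv'p, β_comm D v' w, β_comm D p v', ha]
  match_scalars <;> field_simp [two_ne D] <;> ring

/-- squares scale singular lines -/
theorem exists_torus (hM : LinM (K := K) M) {w p : Vec} (hp : HPair D w p) {a : K} (ha0 : a ≠ 0) :
    ∃ g ∈ M, (∀ k : K, act g (k • w) = (a * a * k) • w) ∧ (∀ k : K, act g ((a * a * k) • p) = k • p) ∧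
      (∀ x ∈ W D w p, act g x = x) ∧ (∀ (k : K) x, act g (k • x) = k • act g x) := by
  obtain ⟨δ, hδ⟩ := exists_iso_elem D
    (LinearMap.id + ((a - 1) • (β D).flip p).smulRight w + ((a⁻¹ - 1) • (β D).flip w).smulRight p) fun x y => by
    simp only [LinearMap.add_apply, LinearMap.id_apply, LinearMap.smulRight_apply, LinearMap.smul_apply,
      LinearMap.flip_apply, map_add, map_smul, smul_eq_mul, hp.1, hp.2.1, hp.2.2, hp.pw D, β_comm D w y,
      β_comm D p y]
    field_simp
    ring
  obtain ⟨s, hs⟩ := exists_iso_elem D (LinearMap.id + ((β D).flip (w - p)).smulRight (w - p)) fun x y => by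
    simp only [LinearMap.add_apply, LinearMap.id_apply, LinearMap.smulRight_apply,
      LinearMap.flip_apply, map_add, map_sub, LinearMap.sub_apply, map_smul, LinearMap.smul_apply, smul_eq_mul, hp.1,
      hp.2.1, hp.2.2, hp.pw D, β_comm D w y, β_comm D p y]
    ring
  have hd1 : ∀ c : K, act δ (c • w) = (a * c) • w := fun c => by
    rw [hδ]
    simp only [LinearMap.add_apply, LinearMap.id_apply, LinearMap.smulRight_apply, LinearMap.smul_apply,
      LinearMap.flip_apply, map_smul, smul_eq_mul, hp.1, hp.2.2]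
    module
  have hd2 : ∀ c : K, act δ ((a * c) • p) = c • p := fun c => by
    rw [hδ]
    simp only [LinearMap.add_apply, LinearMap.id_apply, LinearMap.smulRight_apply, LinearMap.smul_apply,
      LinearMap.flip_apply, map_smul, smul_eq_mul, hp.2.1, hp.pw D]
    match_scalars <;> field_simp <;> ring
  have hs1 : ∀ c : K, act s (c • w) = c • p ∧ act s (c • p) = c • w := fun c => by
    constructor <;> rw [hs] <;>
      simp only [LinearMap.add_apply, LinearMap.id_apply, LinearMap.smulRight_apply, LinearMap.flip_apply,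
        map_sub, LinearMap.sub_apply, map_smul, LinearMap.smul_apply, smul_eq_mul, hp.1, hp.2.1, hp.2.2, hp.pw D] <;>
      module
  refine ⟨δ * s * δ⁻¹ * s⁻¹,
    hM _ (Subgroup.commutator_mem_commutator (Subgroup.mem_top _) (Subgroup.mem_top _)) (lin_comm hδ hs),
    fun k => ?_, fun k => ?_, fun x hx => ?_, lin_comm hδ hs⟩
  rotate_left
  · have e1 : act s⁻¹ ((a * a * k) • p) = (a * a * k) • w := act_injective s (by rw [act_cancel_inv, (hs1 _).1])
    have e2 : act δ⁻¹ ((a * a * k) • w) = (a * k) • w := act_injective δ (by rw [act_cancel_inv, hd1, mul_assoc])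
    rw [act_mul, act_mul, act_mul, e1, e2, (hs1 _).1, hd2]
  · obtain ⟨h1, h2⟩ := (mem_W D).1 hx
    rw [β_comm] at h1 h2
    have f1 : act δ x = x := by rw [hδ]; simp [h1, h2]
    have f2 : act s x = x := by rw [hs]; simp [h1, h2]
    have f3 : act s⁻¹ x = x := act_injective s (by rw [act_cancel_inv, f2])
    have f4 : act δ⁻¹ x = x := act_injective δ (by rw [act_cancel_inv, f1])
    rw [act_mul, act_mul, act_mul, f3, f4, f2, f1]
  have e1 : act s⁻¹ (k • w) = k • p := act_injective s (by rw [act_cancel_inv, (hs1 _).2])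
  have e2 : act δ⁻¹ (k • p) = (a * k) • p := act_injective δ (by rw [act_cancel_inv, hd2])
  rw [act_mul, act_mul, act_mul, e1, e2, (hs1 _).2, hd1, mul_assoc]

include D in
/-- every scalar is a sum of two squares -/
theorem exists_two_squares (x : K) : ∃ a b : K, a * a + b * b = x := by
  haveI : Finite K := Module.finite_of_finite F
  haveI : Fintype K := Fintype.ofFinite K
  obtain ⟨a, b, hab⟩ := FiniteField.exists_root_sum_quadratic
    (f := (Polynomial.X ^ 2 - Polynomial.C x : Polynomial K)) (g := (Polynomial.X ^ 2 : Polynomial K))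
    (by compute_degree!) (by compute_degree!)
    (FiniteField.odd_card_of_char_ne_two fun hc => two_ne D (by
      have : CharP K 2 := hc ▸ ringChar.charP K
      exact CharTwo.two_eq_zero))
  simp only [Polynomial.eval_sub, Polynomial.eval_C, Polynomial.eval_pow, Polynomial.eval_X] at hab
  exact ⟨a, b, by linear_combination hab⟩

end Cfsg.Agent.Forms.Max.OrthExtField
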