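import Mathlib
import Cfsg.Agent.Lib.Forms.Max.OrthExtField.Basic

/-!
# A moved singular line with largest intersection

An element which is not semilinear moves some singular `K`-line to a space meeting a singular line properly.
When the intersection is as large as possible, some such image lies in the orthogonal of the line it meets,
and then the intersection is a hyperplane of the line.
-/

set_option autoImplicit false
set_option linter.unusedSectionVars false

namespace Cfsg.Agent.Forms.Max.OrthExtField

open Matrix Cfsg.Agent.Forms.QuadStd Cfsg.Agent.Forms.Reflections Cfsg.Agent.Classical.Orth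

variable {F : Type*} [Field F] [Fintype F] {ι : Type} [Fintype ι] [DecidableEq ι]
variable {K : Type*} [Field K] [Algebra F K] [FiniteDimensional F K]
variable [Module K (ι → F)] [IsScalarTower F K (ι → F)]
variable {Q : QuadraticForm F (ι → F)}

local notation "Vec" => (ι → F)
local notation "B" => QuadraticMap.polar Q
set_option quotPrecheck false in
local notation "Iso" => Cfsg.isometryGroup F ⇑Q

/-- the movement of a line -/
noncomputable def mv (K : Type*) [Field K] [Algebra F K] [Module K (ι → F)] [IsScalarTower F K (ι → F)]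
    (g : Cfsg.isometryGroup F ⇑Q) (w : ι → F) : K →ₗ[F] (ι → F) :=
  (act g).comp ((LinearMap.toSpanSingleton K _ w).restrictScalars F)

theorem mv_apply (g : Iso) (w : Vec) (k : K) : mv K g w k = act g (k • w) := rfl

/-- a line -/
noncomputable def line (K : Type*) [Field K] [Algebra F K] [Module K (ι → F)] [IsScalarTower F K (ι → F)]
    (w : ι → F) : K →ₗ[F] (ι → F) := (LinearMap.toSpanSingleton K _ w).restrictScalars F

theorem line_apply (w : Vec) (k : K) : line K w k = k • w := rfl

/-- the scalars mapped into a line -/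
noncomputable def sect (K : Type*) [Field K] [Algebra F K] [Module K (ι → F)] [IsScalarTower F K (ι → F)]
    (g : Cfsg.isometryGroup F ⇑Q) (w w' : ι → F) : Submodule F K :=
  (LinearMap.range (line K w')).comap (mv K g w)

theorem mem_sect {g : Iso} {w w' : Vec} {k : K} : k ∈ sect K g w w' ↔ ∃ t : K, t • w' = act g (k • w) := by
  simp [sect, mv_apply, line_apply]

/-- the scalars covered by the image of a line -/
noncomputable def cov (K : Type*) [Field K] [Algebra F K] [Module K (ι → F)] [IsScalarTower F K (ι → F)]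
    (g : Cfsg.isometryGroup F ⇑Q) (w w' : ι → F) : Submodule F K :=
  (LinearMap.range (mv K g w)).comap (line K w')

theorem mem_cov {g : Iso} {w w' : Vec} {t : K} : t ∈ cov K g w w' ↔ ∃ k : K, act g (k • w) = t • w' := by
  simp [cov, mv_apply, line_apply]

theorem mv_injective {g : Iso} {w : Vec} (hw : w ≠ 0) : Function.Injective (mv K g w) := fun a b e =>
  smul_left_injective K hw (act_injective g e)

theorem line_injective {w : Vec} (hw : w ≠ 0) : Function.Injective (line K w : K →ₗ[F] Vec) := fun _ _ e =>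
  smul_left_injective K hw e

theorem finrank_cov {g : Iso} {w w' : Vec} (hw : w ≠ 0) (hw' : w' ≠ 0) :
    Module.finrank F (cov K g w w') = Module.finrank F (sect K g w w') := by
  have e : ∀ (f f' : K →ₗ[F] Vec), Function.Injective f →
      Module.finrank F ↥((LinearMap.range f').comap f) = Module.finrank F ↥(LinearMap.range f ⊓ LinearMap.range f') :=
    fun f f' hf => by
      rw [(Submodule.equivMapOfInjective f hf _).finrank_eq, Submodule.map_comap_eq]
  rw [cov, sect, e _ _ (line_injective hw'), e _ _ (mv_injective hw), inf_comm]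

variable (D : Data K Q)

/-- a moved singular line -/
def Pair (M : Subgroup (Cfsg.isometryGroup F ⇑Q)) (g : Cfsg.isometryGroup F ⇑Q) (w w' : ι → F) : Prop :=
  g ∈ M ∧ w ≠ 0 ∧ β D w w = 0 ∧ w' ≠ 0 ∧ β D w' w' = 0 ∧ sect K g w w' ≠ ⊤

/-- a moved singular line with largest intersection -/
def MaxPair (M : Subgroup (Cfsg.isometryGroup F ⇑Q)) (g : Cfsg.isometryGroup F ⇑Q) (w w' : ι → F) : Prop :=
  Pair D M g w w' ∧ sect K g w w' ≠ ⊥ ∧
    ∀ g' v v', Pair D M g' v v' → Module.finrank F (sect K g' v v') ≤ Module.finrank F (sect K g w w')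

variable {M : Subgroup (Cfsg.isometryGroup F ⇑Q)}

theorem exists_sep {w y : Vec} (hw0 : w ≠ 0) (hw : β D w w = 0) (hy : ∀ t : K, y ≠ t • w) :
    ∃ u, β D w u = 0 ∧ β D y u = 1 := by
  obtain ⟨p, hp⟩ := exists_pair D hw0 hw
  by_contra hc
  push Not at hc
  refine hy (β D y p) (sub_eq_zero.1 (β_ext D fun x => ?_))
  by_contra h
  refine hc ((β D (y - β D y p • w) x)⁻¹ • (x - β D w x • p)) ?_ ?_
  · simp [hp.2.2]
  · simp only [map_smul, map_sub, smul_eq_mul, LinearMap.sub_apply, LinearMap.smul_apply] at h ⊢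
    field_simp

theorem cov_ne_top {g : Iso} {w w' : Vec} (hp : Pair D M g w w') : cov K g w w' ≠ ⊤ := by
  obtain ⟨-, hw, -, hw', -, htop⟩ := hp
  intro h
  refine htop (Submodule.eq_top_of_finrank_eq ?_)
  rw [← finrank_cov hw hw', h, finrank_top]

theorem cov_ne_bot {g : Iso} {w w' : Vec} (hp : MaxPair D M g w w') : cov K g w w' ≠ ⊥ := by
  obtain ⟨⟨-, hw, -, hw', -, -⟩, hbot, -⟩ := hp
  intro h
  refine hbot (Submodule.finrank_eq_zero.1 ?_)
  rw [← finrank_cov hw hw', h, finrank_bot]

/-- the conjugate of an Eichler element -/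
theorem exists_conj (hM : LinM (K := K) M) {g : Iso} (hg : g ∈ M) {w v : Vec} (hw0 : w ≠ 0) (hw : β D w w = 0)
    (hv : β D w v = 0) : ∃ h ∈ M, ∀ x, act g (act h x) = elin D w v (act g x) := by
  obtain ⟨e, he, -, hex⟩ := exists_eichK D hM hw0 hw hv
  exact ⟨g⁻¹ * e * g, mul_mem (mul_mem (inv_mem hg) he) hg, fun x => by
    rw [act_mul, act_mul, act_cancel_inv, hex]⟩

theorem fix_sect {g h : Iso} {w w' v : Vec} (hw' : β D w' w' = 0) (hv : β D w' v = 0)
    (hx : ∀ x, act g (act h x) = elin D w' v (act g x)) {k : K} (hk : k ∈ sect K g w w') :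
    act h (k • w) = k • w := by
  obtain ⟨t, ht⟩ := mem_sect.1 hk
  refine act_injective g ?_
  rw [hx, ← ht, elin_apply, map_smul, LinearMap.smul_apply, LinearMap.smul_apply, hw', hv]
  simp

theorem grow {g h : Iso} {w w' : Vec} (hp : MaxPair D M g w w') (hh : h ∈ M)
    (hfix : ∀ k ∈ sect K g w w', act h (k • w) = k • w) {j t : K} (hj : j ∉ sect K g w w')
    (ht : act h (j • w) = t • w) (i : K) : ∃ t : K, act h (i • w) = t • w := by
  obtain ⟨⟨hg, hw0, hw, hw'0, hw', htop⟩, hbot, hmax⟩ := hp
  by_contra hc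
  push Not at hc
  have hpair : Pair D M h w w := ⟨hh, hw0, hw, hw0, hw, fun e => by
    obtain ⟨t', ht'⟩ := mem_sect.1 (e ▸ Submodule.mem_top : i ∈ sect K h w w)
    exact hc t' ht'.symm⟩
  have hlt : sect K g w w' < sect K h w w := SetLike.lt_iff_le_and_exists.2
    ⟨fun k hk => mem_sect.2 ⟨k, (hfix k hk).symm⟩, j, mem_sect.2 ⟨t, ht.symm⟩, hj⟩
  exact absurd (hmax h w w hpair) (not_le.2 (Submodule.finrank_lt_finrank_of_lt hlt))

/-- a conjugate preserving the line -/
theorem preserves (hM : LinM (K := K) M) {g : Iso} {w w' v : Vec} (hp : MaxPair D M g w w') {j : K}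
    (hj : j ∉ sect K g w w') (hjw : β D (act g (j • w)) w' = 0) (hv : β D w' v = 0)
    (he : β D (act g (j • w)) v ∈ cov K g w w') (i : K) :
    ∃ s : K, elin D w' v (act g (i • w)) - act g (i • w) = act g (s • w) := by
  obtain ⟨h, hh, hx⟩ := exists_conj D hM hp.1.1 hp.1.2.2.2.1 hp.1.2.2.2.2.1 hv
  obtain ⟨k₀, hk₀⟩ := mem_cov.1 he
  have ht : act h (j • w) = (j - k₀) • w := act_injective g (by
    rw [hx, sub_smul, map_sub, hk₀, elin_apply, hjw]
    simp)
  obtain ⟨t, ht'⟩ := grow D hp hh (fun k hk => fix_sect D hp.1.2.2.2.2.1 hv hx hk) hj ht i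
  exact ⟨t - i, by rw [← hx, ht', sub_smul, map_sub]⟩

theorem finrank_restrict (S : Submodule K Vec) :
    Module.finrank F (S.restrictScalars F) = Module.finrank F K * Module.finrank K S :=
  (Module.finrank_mul_finrank F K S).symm

/-- one vector of the image in the orthogonal of the line puts all of them there -/
theorem image_perp (h4 : 4 ≤ Module.finrank K Vec) (hM : LinM (K := K) M) {g : Iso} {w w' : Vec} (hp : MaxPair D M g w w') {j : K}
    (hj : j ∉ sect K g w w') (hjw : β D (act g (j • w)) w' = 0) (i : K) : β D (act g (i • w)) w' = 0 := by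
  by_contra hai
  obtain ⟨hg, hw0, hw, hw'0, hw', htop⟩ := hp.1
  set y := act g (j • w) with hy
  obtain ⟨v₁, hv₁, hyv₁⟩ := exists_sep D hw'0 hw' (y := y) fun t h => hj (mem_sect.2 ⟨t, h.symm⟩)
  obtain ⟨e, he, he0⟩ := (Submodule.ne_bot_iff _).1 (cov_ne_bot D hp)
  let Γ : Submodule F Vec := (LinearMap.ker (β D w')).restrictScalars F ⊓
    (cov K g w w').comap ((β D y).restrictScalars F)
  set c := β D (act g (i • w)) w' with hc
  have hmap : Γ.map ((c • (LinearMap.id : Vec →ₗ[K] Vec)).restrictScalars F) ≤
      LinearMap.range (mv K g w) ⊔ LinearMap.range (line K w') := by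
    rintro _ ⟨v, hv, rfl⟩
    obtain ⟨s, hs⟩ := preserves D hM hp hj hjw hv.1 hv.2 i
    rw [elin_apply, ← hc] at hs
    refine Submodule.mem_sup.2 ⟨act g (s • w), ⟨s, rfl⟩,
      (β D (act g (i • w)) v + β D v v / 2 * c) • w', ⟨_, rfl⟩, ?_⟩
    rw [← hs]
    simp only [LinearMap.restrictScalars_apply, LinearMap.smul_apply, LinearMap.id_apply]
    module
  have hinj : Function.Injective ((c • (LinearMap.id : Vec →ₗ[K] Vec)).restrictScalars F) := fun a b hab => by
    simpa [hai] using hab
  have h1 := Submodule.finrank_mono hmap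
  rw [← (Submodule.equivMapOfInjective _ hinj Γ).finrank_eq] at h1
  have h2 := Submodule.finrank_add_le_finrank_add_finrank (LinearMap.range (mv K g w)) (LinearMap.range (line K w'))
  rw [LinearMap.finrank_range_of_inj (mv_injective hw0), LinearMap.finrank_range_of_inj (line_injective hw'0)] at h2
  have hlt : (orth D ![w', y]).restrictScalars F < Γ := by
    refine SetLike.lt_iff_le_and_exists.2 ⟨fun x hx => ?_, e • v₁, ⟨?_, ?_⟩, fun hmem => ?_⟩
    · have hx' := (mem_orth D).1 hx
      refine ⟨hx' 0, ?_⟩
      show β D y x ∈ cov K g w w'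
      rw [show β D y x = 0 from hx' 1]
      exact zero_mem _
    · show β D w' (e • v₁) = 0
      rw [map_smul, hv₁, smul_zero]
    · show β D y (e • v₁) ∈ cov K g w w'
      rwa [map_smul, hyv₁, smul_eq_mul, mul_one]
    · have : β D y (e • v₁) = 0 := (mem_orth D).1 hmem 1
      rw [map_smul, hyv₁, smul_eq_mul, mul_one] at this
      exact he0 this
  have h3 := Submodule.finrank_lt_finrank_of_lt hlt
  rw [finrank_restrict] at h3
  have hW := finrank_orth D ![w', y]
  have hd := h4
  have : Module.finrank F K * 2 ≤ Module.finrank F K * Module.finrank K (orth D ![w', y]) :=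
    Nat.mul_le_mul_left _ (by omega)
  omega

/-- the image of the line adds one dimension to the intersection -/
theorem sect_hyperplane (hM : LinM (K := K) M) {g : Iso} {w w' : Vec} (hp : MaxPair D M g w w')
    (ha : ∀ i : K, β D (act g (i • w)) w' = 0) {j : K} (hj : j ∉ sect K g w w') :
    ∃ ρ : K →ₗ[F] F, ρ j = 1 ∧ ∀ i, ρ i = 0 ↔ i ∈ sect K g w w' := by
  obtain ⟨hg, hw0, hw, hw'0, hw', htop⟩ := hp.1
  set y := act g (j • w) with hy
  obtain ⟨v₁, hv₁, hyv₁⟩ := exists_sep D hw'0 hw' (y := y) fun t h => hj (mem_sect.2 ⟨t, h.symm⟩)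
  obtain ⟨p, hpp⟩ := exists_pair D hw'0 hw'
  have key : ∀ v : Vec, β D w' v = 0 → β D y v ∈ cov K g w w' → ∀ i : K, β D (act g (i • w)) v ∈ cov K g w w' := by
    intro v hv he i
    obtain ⟨s, hs⟩ := preserves D hM hp hj (ha j) hv he i
    rw [elin_apply, ha i] at hs
    simp only [zero_smul, mul_zero, add_zero, sub_zero] at hs
    refine mem_cov.2 ⟨-s, ?_⟩
    rw [neg_smul, map_neg, ← hs]
    abel
  have hzero : ∀ v : Vec, β D w' v = 0 → β D y v = 0 → ∀ i : K, β D (act g (i • w)) v = 0 := by
    intro v hv hyv i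
    by_contra hne
    refine cov_ne_top D hp.1 (eq_top_iff.2 fun t _ => ?_)
    have := key ((t / β D (act g (i • w)) v) • v) (by rw [map_smul, hv, smul_zero])
      (by rw [map_smul, hyv, smul_zero]; exact zero_mem _) i
    rwa [map_smul, smul_eq_mul, div_mul_cancel₀ _ hne] at this
  -- the multipliers
  let X : Subalgebra F K :=
    { carrier := {x | ∀ t ∈ cov K g w w', x * t ∈ cov K g w w'}
      mul_mem' := fun {x y} hx hy t ht => by rw [mul_assoc]; exact hx _ (hy t ht)
      one_mem' := fun t ht => by rwa [one_mul]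
      add_mem' := fun {x y} hx hy t ht => by rw [add_mul]; exact add_mem (hx t ht) (hy t ht)
      zero_mem' := fun t _ => by rw [zero_mul]; exact zero_mem _
      algebraMap_mem' := fun s t ht => by rw [← Algebra.smul_def]; exact Submodule.smul_mem _ s ht }
  obtain ⟨e, he, he0⟩ := (Submodule.ne_bot_iff _).1 (cov_ne_bot D hp)
  have hX : X = ⊥ := subalgebra_eq_bot (fun h => cov_ne_top D hp.1 (eq_top_iff.2 fun s _ => by
    have := (h ▸ Algebra.mem_top : s / e ∈ X) e he
    rwa [div_mul_cancel₀ _ he0] at this)) D.hr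
  have hα : ∀ i : K, ∃ s : F, β D (act g (i • w)) v₁ = s • (1 : K) := fun i => by
    have h1 : β D (act g (i • w)) v₁ ∈ X := fun t ht => by
      have := key (t • v₁) (by rw [map_smul, hv₁, smul_zero])
        (by rw [map_smul, hyv₁, smul_eq_mul, mul_one]; exact ht) i
      rwa [map_smul, smul_eq_mul, mul_comm] at this
    rw [hX, Algebra.mem_bot] at h1
    obtain ⟨s, hs⟩ := h1
    exact ⟨s, by rw [← hs, Algebra.algebraMap_eq_smul_one]⟩
  obtain ⟨φ, hφ⟩ : ∃ φ : K →ₗ[F] F, φ 1 = 1 := by
    obtain ⟨k, hk⟩ : ∃ k, D.χ k ≠ 0 := by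
      by_contra hc
      push Not at hc
      exact D.hχ (LinearMap.ext hc)
    exact ⟨(D.χ k)⁻¹ • D.χ.comp (LinearMap.mulRight F k), by simp [hk]⟩
  let ρ : K →ₗ[F] F := φ.comp ((((β D).flip v₁).restrictScalars F).comp (mv K g w))
  have hρ : ∀ i : K, β D (act g (i • w)) v₁ = ρ i • (1 : K) := fun i => by
    obtain ⟨s, hs⟩ := hα i
    rw [hs, show ρ i = s by simp [ρ, mv_apply, hs, hφ]]
  have hρj : ρ j = 1 := by simp [ρ, mv_apply, ← hy, hyv₁, hφ]
  refine ⟨ρ, hρj, fun i => ⟨fun h0 => ?_, fun hi => ?_⟩⟩
  · set z := act g (i • w) with hz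
    have hz1 : β D z v₁ = 0 := by rw [hρ, h0, zero_smul]
    refine mem_sect.2 ⟨β D z p, (sub_eq_zero.1 (β_ext D fun x => ?_)).symm⟩
    set x' := x - β D w' x • p with hx'
    have hw'x : β D w' x' = 0 := by simp [hx', hpp.2.2]
    have e1 : β D z x' = 0 := by
      have := hzero (x' - β D y x' • v₁) (by simp [hw'x, hv₁]) (by simp [hyv₁]) i
      rwa [← hz, map_sub, map_smul, hz1, smul_zero, sub_zero] at this
    rw [hx', map_sub, map_smul, smul_eq_mul, sub_eq_zero] at e1
    simp only [← hz, map_sub, map_smul, LinearMap.sub_apply, LinearMap.smul_apply, smul_eq_mul, e1]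
    ring
  · obtain ⟨t, ht⟩ := mem_sect.1 hi
    have := hρ i
    rw [← ht, map_smul, LinearMap.smul_apply, hv₁, smul_zero, eq_comm, smul_eq_zero] at this
    exact this.resolve_right one_ne_zero

open MvPolynomial in
/-- some maximal pair has its image in the orthogonal of the line -/
theorem exists_good (h4 : 4 ≤ Module.finrank K Vec) (hM : LinM (K := K) M) {g : Iso} {w w' : Vec} (hp : MaxPair D M g w w') :
    ∃ g' w₁ w₁', MaxPair D M g' w₁ w₁' ∧ ∀ i : K, β D (act g' (i • w₁)) w₁' = 0 := by
  classical
  by_cases h0 : ∃ j, j ∉ sect K g w w' ∧ β D (act g (j • w)) w' = 0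
  · obtain ⟨j, hj, hjw⟩ := h0
    exact ⟨g, w, w', hp, image_perp D h4 hM hp hj hjw⟩
  push Not at h0
  obtain ⟨hg, hw0, hw, hw'0, hw', htop⟩ := hp.1
  obtain ⟨j, hj⟩ : ∃ j, j ∉ sect K g w w' := by
    by_contra hc
    push Not at hc
    exact htop (eq_top_iff.2 fun k _ => hc k)
  set y := act g (j • w) with hy
  set a := β D y w' with ha
  have ha0 : a ≠ 0 := h0 j hj
  obtain ⟨p, hpp⟩ := exists_pair D hw'0 hw'
  obtain ⟨C, hC⟩ := Submodule.exists_isCompl (sect K g w w')
  let b := Module.finBasis F C
  let S := (W D w' p).restrictScalars F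
  let e := Module.finBasis F S
  let lin : Fin (Module.finrank F C) → (Vec →ₗ[F] F) := fun l =>
    ((polB Q).flip (act g ((b l : K) • w))).comp
      ((a • (LinearMap.id : Vec →ₗ[K] Vec) - (β D y).smulRight w').restrictScalars F)
  let cq : Fin (Module.finrank F C) → Fin (Module.finrank F S) → Fin (Module.finrank F S) → F := fun l c c' =>
    D.χ (a / 2 * β D (act g ((b l : K) • w)) w' * β D (e c : Vec) (e c' : Vec))
  let P : Fin (Module.finrank F C) → MvPolynomial (Fin (Module.finrank F S)) F := fun l =>
    (∑ c, MvPolynomial.C (lin l (e c : Vec)) * X c) -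
      ∑ c, ∑ c', MvPolynomial.C (cq l c c') * (X c * X c')
  have hdeg : ∀ l, (P l).totalDegree ≤ 2 := fun l => by
    refine (totalDegree_sub _ _).trans (max_le ?_ ?_)
    · refine (totalDegree_finsetSum _ _).trans (Finset.sup_le fun c _ => ?_)
      refine (totalDegree_mul _ _).trans ?_
      rw [totalDegree_C, totalDegree_X]; omega
    · refine (totalDegree_finsetSum _ _).trans (Finset.sup_le fun c _ => ?_)
      refine (totalDegree_finsetSum _ _).trans (Finset.sup_le fun c' _ => ?_)
      refine (totalDegree_mul _ _).trans ?_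
      rw [totalDegree_C, zero_add]
      refine (totalDegree_mul _ _).trans ?_
      rw [totalDegree_X, totalDegree_X]
  have hsum : (∑ l, (P l).totalDegree) < Fintype.card (Fin (Module.finrank F S)) := by
    refine lt_of_le_of_lt (Finset.sum_le_sum fun l _ => hdeg l) ?_
    rw [Finset.sum_const, Finset.card_univ, Fintype.card_fin, Fintype.card_fin, smul_eq_mul]
    have h1 := Submodule.finrank_add_eq_of_isCompl hC
    have h2 : 1 ≤ Module.finrank F (sect K g w w') := Submodule.one_le_finrank_iff.2 hp.2.1
    have h3 : Module.finrank F S = Module.finrank F K * Module.finrank K (W D w' p) := finrank_restrict _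
    have hW := two_le_W D w' p
    have hd := h4
    have : Module.finrank F K * 2 ≤ Module.finrank F K * Module.finrank K (W D w' p) :=
      Nat.mul_le_mul_left _ (by omega)
    omega
  obtain ⟨q, hq⟩ := CharP.exists F
  haveI : Fact q.Prime := ⟨(CharP.char_is_prime_or_zero F q).resolve_right (CharP.char_ne_zero_of_finite F q)⟩
  have hdvd := char_dvd_card_solutions_of_fintype_sum_lt q hsum
  have hz : ∀ l, MvPolynomial.eval (0 : Fin (Module.finrank F S) → F) (P l) = 0 := fun l => by simp [P]
  have hcard : 1 < Nat.card { x : Fin (Module.finrank F S) → F // ∀ l, MvPolynomial.eval x (P l) = 0 } := by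
    haveI : Nonempty { x : Fin (Module.finrank F S) → F // ∀ l, MvPolynomial.eval x (P l) = 0 } := ⟨⟨0, hz⟩⟩
    refine (Fact.out : q.Prime).one_lt.trans_le (Nat.le_of_dvd Nat.card_pos ?_)
    rw [Nat.card_eq_fintype_card]
    convert hdvd
  haveI := Finite.one_lt_card_iff_nontrivial.1 hcard
  obtain ⟨⟨x, hxs⟩, hx0⟩ := exists_ne (⟨0, hz⟩ : { x : Fin (Module.finrank F S) → F // ∀ l, MvPolynomial.eval x (P l) = 0 })
  set v := ((e.equivFun.symm x : S) : Vec) with hv
  have hvW : v ∈ W D w' p := (e.equivFun.symm x).2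
  have hv0 : v ≠ 0 := fun h => hx0 (Subtype.ext (by
    have : e.equivFun.symm x = 0 := Subtype.ext h
    exact (e.equivFun.symm.map_eq_zero_iff).1 this))
  have hvw := (mem_W D).1 hvW
  obtain ⟨h, hh, hhx⟩ := exists_conj D hM hg hw'0 hw' hvw.1
  have hvsum : v = ∑ c, x c • (e c : Vec) := by
    rw [hv, Module.Basis.equivFun_symm_apply, Submodule.coe_sum]
    rfl
  -- the equations say that the image of `j` is orthogonal to the line
  have hperp : ∀ i : K, B (elin D w' v y) (act g (i • w)) = 0 := by
    intro i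
    obtain ⟨s, hs, c, hc, rfl⟩ := Submodule.mem_sup.1 (hC.sup_eq_top.symm ▸ Submodule.mem_top : i ∈ _ ⊔ C)
    rw [add_smul, map_add, QuadraticMap.polar_add_right]
    have e1 : B (elin D w' v y) (act g (s • w)) = 0 := by
      rw [hy, ← hhx, act_polar, ← fix_sect D hw' hvw.1 hhx hs, act_polar, B_eq D]
      simp [hw]
    rw [e1, zero_add]
    have hall : ∀ l, B (elin D w' v y) (act g ((b l : K) • w)) = 0 := fun l => by
      have := hxs l
      simp only [P, map_sub, map_sum, map_mul, MvPolynomial.eval_C, MvPolynomial.eval_X] at this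
      have eB : B y (act g ((b l : K) • w)) = 0 := by
        rw [hy, act_polar, B_eq D]
        simp [hw]
      have eq : ∑ c, ∑ c', cq l c c' * (x c * x c') =
          D.χ (a / 2 * β D (act g ((b l : K) • w)) w' * β D v v) := by
        rw [hvsum]
        simp only [map_sum, LinearMap.sum_apply, Finset.mul_sum, cq]
        generalize β D (act g ((b l : K) • w)) w' = γl
        rw [Finset.sum_comm]
        refine Finset.sum_congr rfl fun c' _ => Finset.sum_congr rfl fun c _ => ?_
        rw [LinearMap.map_smul_of_tower, LinearMap.map_smul_of_tower, LinearMap.smul_apply, mul_smul_comm,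
          mul_smul_comm, map_smul, map_smul, smul_eq_mul, smul_eq_mul]
        ring
      have el : ∑ c, lin l (e c : Vec) * x c = lin l v := by
        rw [hvsum, map_sum]
        exact Finset.sum_congr rfl fun c _ => by rw [map_smul, smul_eq_mul, mul_comm]
      rw [eq, el, sub_eq_zero] at this
      rw [elin_apply, QuadraticMap.polar_sub_left, QuadraticMap.polar_sub_left, QuadraticMap.polar_add_left, eB,
        zero_add, ← ha]
      have e2 : lin l v = B (a • v) (act g ((b l : K) • w)) - B (β D y v • w') (act g ((b l : K) • w)) := by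
        simp [lin, polB_apply, QuadraticMap.polar_sub_left]
      have e3 : B ((β D v v / 2 * a) • w') (act g ((b l : K) • w)) =
          D.χ (a / 2 * β D (act g ((b l : K) • w)) w' * β D v v) := by
        rw [B_eq D, map_smul, LinearMap.smul_apply, smul_eq_mul, β_comm D w']
        congr 1
        ring
      rw [e3, ← this, e2, sub_self]
    let Λ : C →ₗ[F] F := ((polB Q) (elin D w' v y)).comp ((mv K g w).comp C.subtype)
    have : Λ = 0 := b.ext fun l => by simpa [Λ, mv_apply, polB_apply] using hall l
    simpa [Λ, mv_apply, polB_apply] using LinearMap.congr_fun this ⟨c, hc⟩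
  have hjh : β D (act h (j • w)) w = 0 := chi_ext D fun i => by
    rw [spec', mul_zero, map_zero, ← act_polar g, hhx, ← hy]
    exact hperp i
  -- the conjugate moves the line
  have hmv : ∀ t : K, act h (j • w) ≠ t • w := by
    intro t ht
    obtain ⟨t', ht'⟩ := grow D hp hh (fun k hk => fix_sect D hw' hvw.1 hhx hk) hj ht j
    have e2 := congrArg (act g) ht'
    rw [hhx, ← hy] at e2
    have e3 : act g ((t' - j) • w) = a • v - (β D y v + β D v v / 2 * a) • w' := by
      rw [sub_smul, map_sub, ← e2, ← hy, elin_apply, ← ha]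
      module
    have e4 : t' - j ∈ sect K g w w' := by
      by_contra hn
      refine h0 _ hn ?_
      rw [e3, map_sub, map_smul, map_smul, LinearMap.sub_apply, LinearMap.smul_apply, LinearMap.smul_apply,
        β_comm D v w', hvw.1, hw', smul_zero, smul_zero, sub_zero]
    obtain ⟨s, hs⟩ := mem_sect.1 e4
    rw [e3] at hs
    have e5 : a • v = (s + (β D y v + β D v v / 2 * a)) • w' := by rw [add_smul, hs]; abel
    have e6 := congrArg (fun z => β D p z) e5
    simp only [map_smul, hvw.2, hpp.pw D, mul_zero, smul_eq_mul, mul_one] at e6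
    rw [← e6, zero_smul, smul_eq_zero] at e5
    exact e5.elim ha0 hv0
  have hpair : Pair D M h w w := ⟨hh, hw0, hw, hw0, hw, fun e => by
    obtain ⟨t, ht⟩ := mem_sect.1 (e ▸ Submodule.mem_top : j ∈ sect K h w w)
    exact hmv t ht.symm⟩
  have hle : sect K g w w' ≤ sect K h w w := fun k hk =>
    mem_sect.2 ⟨k, (fix_sect D hw' hvw.1 hhx hk).symm⟩
  have hmp : MaxPair D M h w w := ⟨hpair, fun e => hp.2.1 (le_bot_iff.1 (e ▸ hle)),
    fun g' u u' hu => (hp.2.2 g' u u' hu).trans (Submodule.finrank_mono hle)⟩
  exact ⟨h, w, w, hmp, image_perp D h4 hM hmp (j := j) (fun hj' => by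
    obtain ⟨t, ht⟩ := mem_sect.1 hj'
    exact hmv t ht.symm) hjh⟩

/-- the scalar of one line of a pair serves the other line and the orthogonal of the pair -/
theorem lines_step (g : Iso)
    (hl : ∀ w, w ≠ 0 → β D w w = 0 → ∀ k : K, ∃ t : K, t • act g w = act g (k • w)) {w p : Vec}
    (hp : HPair D w p) {k t : K} (hkt : t • act g p = act g (k • p)) :
    (∀ d ∈ W D w p, act g (k • d) = t • act g d) ∧ ∀ u : K, act g ((k * u) • w) = t • act g (u • w) := by
  have hw0 : w ≠ 0 := hp.ne D
  have hp0 : p ≠ 0 := (HPair.symm D hp).ne D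
  set X := act g w with hX
  set Y := act g p with hY
  have hX0 : X ≠ 0 := fun e => hw0 (act_injective g (e.trans (map_zero _).symm))
  have hline : ∀ {u : Vec}, u ≠ 0 → β D u u = 0 → ∀ s : K, ∃ c : K, s • act g u = act g (c • u) := by
    intro u hu0 hu s
    have hgu : act g u ≠ 0 := fun e => hu0 (act_injective g (e.trans (map_zero _).symm))
    choose σ hσ using fun c : K => hl u hu0 hu c
    let L : K →ₗ[F] K :=
      { toFun := σ
        map_add' := fun c c' => smul_left_injective K hgu (by simp only [add_smul, hσ, map_add])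
        map_smul' := fun c c' => smul_left_injective K hgu (by
          simp only [RingHom.id_apply, smul_assoc, hσ, map_smul]) }
    have hinj : Function.Injective L := fun c c' e => smul_left_injective K hu0 (act_injective g (by
      show act g (c • u) = act g (c' • u)
      rw [← hσ, ← hσ]; exact congrArg (fun z => z • act g u) e))
    obtain ⟨c, hc⟩ := LinearMap.injective_iff_surjective.1 hinj s
    exact ⟨c, by rw [← hσ]; exact congrArg (fun z => z • act g u) hc.symm⟩
  choose σ hσ using fun c : K => hl w hw0 hp.1 c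
  have hXX : β D X X = 0 := chi_ext D fun s => by
    obtain ⟨c, hc⟩ := hline hw0 hp.1 s
    rw [spec, hX, hc, act_polar, B_eq D, map_smul, LinearMap.smul_apply, hp.1, smul_zero, mul_zero]
  have hXY : β D X Y ≠ 0 := fun h => by
    have h1 : ∀ c : K, B (act g (c • w)) Y = 0 := fun c => by
      rw [← hσ c, ← hX, ← spec D, h, mul_zero, map_zero]
    refine D.hχ (LinearMap.ext fun c => ?_)
    have e := h1 c
    rwa [hY, act_polar, B_eq D, map_smul, LinearMap.smul_apply, hp.2.2, smul_eq_mul, mul_one] at e
  have hd3 : ∀ d, β D w d = 0 → β D p d = 0 → ∃ s : K, s • (Y + act g d - σ (β D d d / 2) • X) =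
      t • Y + act g (k • d) - σ (k * (β D d d / 2)) • X := by
    intro d hwd hpd
    have h0 : p + d - (β D d d / 2) • w ≠ 0 := fun e => by
      have := congrArg (fun z => β D w z) e
      simp [hp.2.2, hwd, hp.1] at this
    have hs : β D (p + d - (β D d d / 2) • w) (p + d - (β D d d / 2) • w) = 0 := by
      simp only [map_add, map_sub, map_smul, LinearMap.add_apply, LinearMap.sub_apply, LinearMap.smul_apply,
        smul_eq_mul, hp.2.1, hp.2.2, hp.pw D, hp.1, hwd, hpd, β_comm D d p, β_comm D d w]
      field_simp [two_ne D]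
      ring
    obtain ⟨s, hs'⟩ := hl _ h0 hs k
    refine ⟨s, ?_⟩
    rw [hX, hY, hσ, hσ, hkt, ← map_add, ← map_sub, hs', smul_sub, smul_add, smul_smul, map_sub, map_add]
  have hmain : ∀ d ∈ W D w p, d ≠ 0 →
      act g (k • d) = t • act g d ∧ σ (k * (β D d d / 2)) = t * σ (β D d d / 2) := by
    intro d hdW hd0
    obtain ⟨hwd, hpd⟩ := (mem_W D).1 hdW
    obtain ⟨s, hs⟩ := hd3 d hwd hpd
    obtain ⟨s', hs'⟩ := hd3 (-d) (by simp [hwd]) (by simp [hpd])
    simp only [map_neg, LinearMap.neg_apply, neg_neg, smul_neg] at hs'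
    set Z := act g d with hZ
    set c := σ (β D d d / 2) with hc
    set c' := σ (k * (β D d d / 2)) with hc'
    have hind : ∀ a b e : K, a • X + b • Y + e • Z = 0 → a = 0 ∧ b = 0 ∧ e = 0 := by
      intro a b e hab
      by_cases he : e = 0
      · subst he
        rw [zero_smul, add_zero] at hab
        have e1 := congrArg (fun z => β D X z) hab
        simp only [map_add, map_smul, hXX, smul_zero, mul_zero, zero_add, map_zero, smul_eq_mul, mul_eq_zero] at e1
        have hb : b = 0 := e1.resolve_right hXY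
        rw [hb, zero_smul, add_zero, smul_eq_zero] at hab
        exact ⟨hab.resolve_right hX0, hb, rfl⟩
      exfalso
      obtain ⟨cw, hcw⟩ := hline hw0 hp.1 (-(e⁻¹ * a))
      obtain ⟨cp, hcp⟩ := hline hp0 hp.2.1 (-(e⁻¹ * b))
      have hZe : Z = act g (cw • w + cp • p) := by
        rw [map_add, ← hcw, ← hcp, ← hX, ← hY]
        have := congrArg (fun z => e⁻¹ • z) hab
        simp only [smul_add, smul_smul, inv_mul_cancel₀ he, one_smul, smul_zero] at this
        linear_combination (norm := module) this
      have hde := act_injective g (hZ ▸ hZe : act g d = _)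
      apply hd0
      have e1 := congrArg (fun z => β D w z) hde
      have e2 := congrArg (fun z => β D p z) hde
      simp only [map_add, map_smul, hwd, hpd, hp.1, hp.2.1, hp.2.2, hp.pw D, smul_eq_mul, mul_zero, mul_one,
        zero_add, add_zero] at e1 e2
      rw [hde, ← e1, ← e2]
      simp
    obtain ⟨q1, q2, q3⟩ := hind (2 * c' - (s + s') * c) (s + s' - 2 * t) (s - s')
      (by linear_combination (norm := module) hs + hs')
    obtain rfl : s = s' := sub_eq_zero.1 q3
    obtain rfl : s = t := mul_left_cancel₀ (two_ne D) (by linear_combination q2)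
    have hcc : c' = s * c := mul_left_cancel₀ (two_ne D) (by linear_combination q1)
    refine ⟨?_, hcc⟩
    rw [hcc] at hs
    linear_combination (norm := module) -hs
  have hW : ∀ d ∈ W D w p, act g (k • d) = t • act g d := fun d hd => by
    rcases eq_or_ne d 0 with rfl | hd0
    · simp
    · exact (hmain d hd hd0).1
  refine ⟨hW, fun u => ?_⟩
  obtain ⟨v, hv, hvv⟩ := exists_nonsing D hp
  obtain ⟨x, y, hxy⟩ := exists_two_squares D (2 * u / β D v v)
  have hsq : ∀ x : K, act g ((k * (x * x * β D v v / 2)) • w) = t • act g ((x * x * β D v v / 2) • w) := fun x => by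
    rcases eq_or_ne x 0 with rfl | hx
    · simp
    have hxv : x • v ≠ 0 := smul_ne_zero hx fun e => hvv (by rw [e, map_zero])
    have := (hmain (x • v) (Submodule.smul_mem _ _ hv) hxv).2
    rw [map_smul, map_smul, LinearMap.smul_apply, smul_eq_mul, smul_eq_mul, ← mul_assoc] at this
    rw [← hσ, ← hσ, this, mul_smul]
  have hu : u = x * x * β D v v / 2 + y * y * β D v v / 2 := by
    rw [← add_div, ← add_mul, hxy, div_mul_cancel₀ _ hvv, mul_div_cancel_left₀ _ (two_ne D)]
  rw [hu, mul_add, add_smul, map_add, hsq, hsq, ← smul_add, ← map_add, ← add_smul]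

/-- semilinearity, if all singular lines go to lines -/
theorem semilinear_of_lines (g : Iso)
    (hl : ∀ w, w ≠ 0 → β D w w = 0 → ∀ k : K, ∃ t : K, t • act g w = act g (k • w)) (k : K) :
    ∃ k' : K, ∀ x, act g (k • x) = k' • act g x := by
  obtain ⟨w, -, hw0, hww⟩ := exists_iso D (S := (⊤ : Submodule K Vec)) (by rw [finrank_top]; have := D.hd; omega)
  obtain ⟨p, hp⟩ := exists_pair D hw0 hww
  have hp0 : p ≠ 0 := (HPair.symm D hp).ne D
  obtain ⟨t, ht⟩ := hl p hp0 hp.2.1 k
  obtain ⟨s, hs⟩ := hl w hw0 hww k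
  obtain ⟨h1, h2⟩ := lines_step D g hl hp ht
  obtain ⟨-, h3⟩ := lines_step D g hl (HPair.symm D hp) hs
  have hst : s = t := smul_left_injective K (fun e => hw0 (act_injective g (e.trans (map_zero _).symm))) (by
    have := h2 1
    rw [mul_one, one_smul, ← hs] at this
    exact this)
  subst hst
  refine ⟨s, fun x => ?_⟩
  rw [pr_add D w p x]
  simp only [smul_add, map_add, smul_smul, h2, h3, h1 _ (pr_mem D hp x)]

theorem exists_max (h4 : 4 ≤ Module.finrank K Vec) (hM : LinM (K := K) M) {g : Iso} (hg : g ∈ M)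
    (hns : ¬ ∀ k : K, ∃ k' : K, ∀ x, act g (k • x) = k' • act g x) :
    ∃ g' w w', MaxPair D M g' w w' := by
  classical
  obtain ⟨w, hw0, hw, k, hk⟩ : ∃ w, w ≠ 0 ∧ β D w w = 0 ∧ ∃ k : K, ∀ t : K, t • act g w ≠ act g (k • w) := by
    by_contra hc
    push Not at hc
    exact hns fun k => semilinear_of_lines D g (fun w hw0 hw c => hc w hw0 hw c) k
  obtain ⟨g', w', hw'0, hw', hg', hne, hone⟩ : ∃ g' w', w' ≠ 0 ∧ β D w' w' = 0 ∧ g' ∈ M ∧
      sect K g' w w' ≠ ⊤ ∧ (1 : K) ∈ sect K g' w w' := by
    have hy0 : act g w ≠ 0 := fun e => hw0 (act_injective g (e.trans (map_zero _).symm))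
    set y := act g w with hy
    by_cases hyy : β D y y = 0
    · exact ⟨g, y, hy0, hyy, hg, fun e => by
        obtain ⟨t, ht⟩ := mem_sect.1 (e ▸ Submodule.mem_top : k ∈ sect K g w y)
        exact hk t ht, mem_sect.2 ⟨1, by rw [one_smul, one_smul]⟩⟩
    by_contra hc
    push Not at hc
    -- every conjugate of a root fixing `y` preserves the image of the line
    have hY : ∀ u c, u ≠ 0 → β D u u = 0 → β D y u = 0 → β D y c = 0 → β D u c = 0 → ∀ i : K,
        elin D u c (act g (i • w)) ∈ LinearMap.range (mv K g w) := by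
      intro u c hu0 hu hyu hyc huc i
      obtain ⟨h, hh, hx⟩ := exists_conj D hM hg hu0 hu huc
      have h1 : act h w = w := act_injective g (by rw [hx, ← hy, elin_apply, hyu, hyc]; simp)
      have htop : sect K h w w = ⊤ := by
        by_contra hne
        exact hc h w hw0 hw hh hne (mem_sect.2 ⟨1, by rw [one_smul, h1]⟩)
      obtain ⟨t, ht⟩ := mem_sect.1 (htop.symm ▸ Submodule.mem_top : i ∈ sect K h w w)
      exact ⟨t, by rw [mv_apply, ← hx, ← ht]⟩
    have hS : Nd D (orth D ![y]) := fun r hr hr0 => by
      have hry : β D y r = 0 := (mem_orth D).1 hr 0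
      by_contra hc'
      push Not at hc'
      refine hr0 (β_ext D fun x => ?_)
      have := hc' (x - (β D y x / β D y y) • y) ((mem_orth D).2 fun i => by
        fin_cases i
        simp [div_mul_cancel₀ _ hyy])
      rwa [map_sub, map_smul, β_comm D r y, hry, smul_zero, sub_zero] at this
    have hd := h4
    have h3 : 3 ≤ Module.finrank K (orth D ![y]) := by have := finrank_orth D ![y]; omega
    -- so the image lies in the line of `y`
    have hYline : ∀ i : K, ∃ c : K, act g (i • w) = c • y := by
      intro i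
      set z := act g (i • w) with hz
      refine ⟨β D y z / β D y y, sub_eq_zero.1 ?_⟩
      set z' := z - (β D y z / β D y y) • y with hz'
      by_contra hz'0
      have hz'S : z' ∈ orth D ![y] := (mem_orth D).2 fun i => by
        fin_cases i
        simp [hz', div_mul_cancel₀ _ hyy]
      obtain ⟨u, huS, hu, hzu⟩ := exists_sing_meet D hS h3 (hS z' hz'S hz'0)
      have hyu : β D y u = 0 := (mem_orth D).1 huS 0
      have hu0 : u ≠ 0 := fun e => hzu (by rw [e, map_zero])
      rw [hz', map_sub, map_smul, LinearMap.sub_apply, LinearMap.smul_apply, hyu, smul_zero, sub_zero] at hzu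
      let Θ : Vec →ₗ[F] Vec := (β D z u • (LinearMap.id : Vec →ₗ[K] Vec)).restrictScalars F
      have hle : (((orth D ![u, y]).restrictScalars F).map Θ ⊔ (F ∙ y)) ≤
          LinearMap.range (mv K g w) ⊔ LinearMap.range (line K u) := by
        refine sup_le ?_ ((Submodule.span_singleton_le_iff_mem _ _).2 (Submodule.mem_sup_left ⟨1, ?_⟩))
        · rintro _ ⟨c, hc', rfl⟩
          have huc : β D u c = 0 := (mem_orth D).1 hc' 0
          have hyc : β D y c = 0 := (mem_orth D).1 hc' 1
          obtain ⟨t, ht⟩ := hY u c hu0 hu hyu hyc huc i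
          refine Submodule.mem_sup.2 ⟨act g ((t - i) • w), ⟨t - i, rfl⟩,
            (β D z c + β D c c / 2 * β D z u) • u, ⟨_, rfl⟩, ?_⟩
          rw [sub_smul, map_sub, ← hz, ← mv_apply, ht, elin_apply]
          simp only [Θ, LinearMap.restrictScalars_apply, LinearMap.smul_apply, LinearMap.id_apply]
          module
        · rw [mv_apply, one_smul]
      have hlt : ((orth D ![u, y]).restrictScalars F).map Θ <
          ((orth D ![u, y]).restrictScalars F).map Θ ⊔ (F ∙ y) := by
        refine left_lt_sup.2 fun hle' => ?_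
        obtain ⟨c, hc', e⟩ := Submodule.mem_map.1 (hle' (Submodule.mem_span_singleton_self y))
        have e' := congrArg (fun v => β D y v) e
        simp only [Θ, LinearMap.restrictScalars_apply, LinearMap.smul_apply, LinearMap.id_apply, map_smul,
          show β D y c = 0 from (mem_orth D).1 hc' 1, smul_zero] at e'
        exact hyy e'.symm
      have a1 := Submodule.finrank_lt_finrank_of_lt hlt
      have a2 := Submodule.finrank_mono hle
      have a3 := Submodule.finrank_add_le_finrank_add_finrank (LinearMap.range (mv K g w))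
        (LinearMap.range (line K u))
      rw [LinearMap.finrank_range_of_inj (mv_injective hw0), LinearMap.finrank_range_of_inj (line_injective hu0)] at a3
      have hinj : Function.Injective Θ := fun a b hab => by simpa [Θ, hzu] using hab
      rw [← (Submodule.equivMapOfInjective Θ hinj _).finrank_eq, finrank_restrict] at a1
      have a4 := finrank_orth D ![u, y]
      have : Module.finrank F K * 2 ≤ Module.finrank F K * Module.finrank K (orth D ![u, y]) :=
        Nat.mul_le_mul_left _ (by omega)
      omega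
    choose σ hσ using hYline
    let L : K →ₗ[F] K :=
      { toFun := σ
        map_add' := fun c c' => smul_left_injective K hy0 (by simp only [add_smul, ← hσ, map_add])
        map_smul' := fun c c' => smul_left_injective K hy0 (by
          simp only [RingHom.id_apply, smul_assoc, ← hσ, map_smul]) }
    have hLinj : Function.Injective L := fun c c' e => smul_left_injective K hw0 (act_injective g (by
      show act g (c • w) = act g (c' • w)
      rw [hσ, hσ]; exact congrArg (fun z => z • y) e))
    refine hyy (chi_ext D fun s => ?_)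
    obtain ⟨c, hc'⟩ := LinearMap.injective_iff_surjective.1 hLinj s
    rw [spec, mul_zero, map_zero, ← hc', show L c • y = act g (c • w) from (hσ c).symm, hy, act_polar, B_eq D,
      map_smul, LinearMap.smul_apply, hw, smul_zero, map_zero]
  let P : ℕ → Prop := fun e => ∃ g' v v', Pair D M g' v v' ∧ Module.finrank F (sect K g' v v') = e
  have hpair : Pair D M g' w w' := ⟨hg', hw0, hw, hw'0, hw', hne⟩
  obtain ⟨g₁, v, v', hp', he⟩ := Nat.findGreatest_spec (P := P) (Submodule.finrank_le (sect K g' w w'))
    ⟨g', w, w', hpair, rfl⟩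
  have hmax : ∀ g'' u u', Pair D M g'' u u' →
      Module.finrank F (sect K g'' u u') ≤ Module.finrank F (sect K g₁ v v') :=
    fun g'' u u' h => he ▸ Nat.le_findGreatest (Submodule.finrank_le _) ⟨g'', u, u', h, rfl⟩
  refine ⟨g₁, v, v', hp', fun h0 => ?_, hmax⟩
  have h1 := hmax _ _ _ hpair
  rw [h0, finrank_bot, Nat.le_zero, Submodule.finrank_eq_zero] at h1
  rw [h1, Submodule.mem_bot] at hone
  exact one_ne_zero hone

end Cfsg.Agent.Forms.Max.OrthExtField
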