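import Mathlib
import Cfsg.Agent.Lib.Forms.Max.OrthExtField.Pairs
import Cfsg.Agent.Lib.Forms.Max.OrthBlocks

/-!
# Root elements from a maximal pair

The conjugate of an Eichler element stabilises a singular line and induces a transvection on it; its
commutators with Eichler elements are root elements.
-/

set_option autoImplicit false
set_option linter.unusedSectionVars false

namespace Cfsg.Agent.Forms.Max.OrthExtField

open Matrix Cfsg.Agent.Forms.QuadStd Cfsg.Agent.Forms.Reflections Cfsg.Agent.Classical.Orth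
open Cfsg.Agent.Forms.Max.OrthBlocks (Dir)

variable {F : Type*} [Field F] [Fintype F] {ι : Type} [Fintype ι] [DecidableEq ι]
variable {K : Type*} [Field K] [Algebra F K] [FiniteDimensional F K]
variable [Module K (ι → F)] [IsScalarTower F K (ι → F)]
variable {Q : QuadraticForm F (ι → F)}

local notation "Vec" => (ι → F)
local notation "B" => QuadraticMap.polar Q
set_option quotPrecheck false in
local notation "Iso" => Cfsg.isometryGroup F ⇑Q

variable (D : Data K Q) {M : Subgroup (Cfsg.isometryGroup F ⇑Q)}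

theorem sing_smul {w : Vec} (hw : β D w w = 0) (i : K) : Q (i • w) = 0 := sing_of_β D (by simp [hw])

theorem polar_line {w : Vec} (hw : β D w w = 0) (i l : K) : B (i • w) (l • w) = 0 := by
  rw [B_eq D]; simp [hw]

theorem polar_smul_smul (i l : K) (x y : Vec) : B (i • x) (l • y) = D.χ (i * l * β D x y) := by
  rw [B_eq D]
  congr 1
  simp only [map_smul, LinearMap.smul_apply, smul_eq_mul]
  ring

/-- an element fixing a line pointwise and acting trivially on the two layers above it -/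
def InR (w p : ι → F) (g : Cfsg.isometryGroup F ⇑Q) (T : K → (ι → F)) : Prop :=
  (∀ i : K, act g (i • w) = i • w) ∧ (∀ x, β D x w = 0 → ∃ f : K, act g x = x + f • w) ∧
    ∀ k : K, T k ∈ W D w p ∧ ∃ f : K, act g (k • p) = k • p + T k + f • w

theorem InR.comm {w p : Vec} (hp : HPair D w p) {g : Iso} {T : K → Vec} (hg : InR D w p g T) {d : Vec}
    (hd : d ∈ W D w p) {e : Iso} (he : ∀ x, act e x = elin D w d x) {k₀ Y : K}
    (hC : ∀ k m : K, D.χ (m * β D (T k) d) - D.χ (k * β D (T m) d) =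
      D.χ (k₀ * k) * D.χ (Y * m) - D.χ (Y * k) * D.χ (k₀ * m)) :
    eich (k₀ • w) (Y • w) (sing_smul D hp.1 k₀) (polar_line D hp.1 k₀ Y) = g * e * g⁻¹ * e⁻¹ := by
  obtain ⟨hgw, hgp, hgk⟩ := hg
  obtain ⟨hwd, hpd⟩ := (mem_W D).1 hd
  set X := eich (k₀ • w) (Y • w) (sing_smul D hp.1 k₀) (polar_line D hp.1 k₀ Y) with hX
  suffices h : g * e = X * e * g by
    rw [h]; group
  have hXperp : ∀ x, β D x w = 0 → act X x = x := fun x hx => by
    have : ∀ i : K, B x (i • w) = 0 := fun i => by rw [← spec' D, hx, mul_zero, map_zero]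
    exact act_eich_fix _ _ (this _) (this _)
  have hperp : ∀ x, β D x w = 0 → act g (act e x) = act X (act e (act g x)) := fun x hx => by
    obtain ⟨f, hf⟩ := hgp x hx
    have e1 : act e x = x + (-β D x d) • w := by rw [he, elin_apply, hx]; simp [sub_eq_add_neg]
    have e2 : act e (f • w) = f • w := by rw [he, elin_apply]; simp [hp.1, hwd]
    have e3 : ∀ i : K, act X (i • w) = i • w := fun i => hXperp _ (by simp [hp.1])
    simp only [hf, map_add, e1, e2, hgw, e3, hXperp x hx]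
    abel
  refine act_ext fun x => ?_
  rw [act_mul, act_mul, act_mul]
  have hsplit : x = (x - β D x w • p) + β D x w • p := by abel
  rw [hsplit]
  simp only [map_add]
  have h0 : β D (x - β D x w • p) w = 0 := by simp [hp.pw D]
  rw [hperp _ h0]
  congr 1
  generalize β D x w = k
  obtain ⟨hTk, f, hf⟩ := hgk k
  obtain ⟨hwT, hpT⟩ := (mem_W D).1 hTk
  have hkd : β D (k • d) w = 0 := by simp [β_comm D d w, hwd]
  obtain ⟨fd, hfd⟩ := hgp _ hkd
  have e1 : act e (k • p) = k • p + k • d + (-(β D d d / 2 * k)) • w := by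
    rw [he, elin_apply]
    simp [hp.pw D, β_comm D d p, hpd, sub_eq_add_neg]
  have e2 : act e (T k) = T k + (-β D (T k) d) • w := by
    rw [he, elin_apply, β_comm D (T k) w, hwT]; simp [sub_eq_add_neg]
  have e3 : ∀ i : K, act e (i • w) = i • w := fun i => by rw [he, elin_apply]; simp [hp.1, hwd]
  have x1 : ∀ i : K, act X (i • w) = i • w := fun i => hXperp _ (by simp [hp.1])
  have x2 : act X (T k) = T k := hXperp _ (by rw [β_comm, hwT])
  have x3 : act X (k • d) = k • d := hXperp _ hkd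
  have x4 : act X (k • p) = k • p + (D.χ (k₀ * k) • Y - D.χ (Y * k) • k₀) • w := by
    rw [hX, act_eich, sing_smul D hp.1, polar_smul_smul D, polar_smul_smul D, hp.pw D, mul_one, mul_one,
      mul_comm k k₀, mul_comm k Y, zero_mul, zero_smul, sub_zero, sub_smul, smul_assoc, smul_assoc]
    abel
  have hC' : fd + β D (T k) d = D.χ (k₀ * k) • Y - D.χ (Y * k) • k₀ := by
    refine chi_ext D fun m => ?_
    obtain ⟨hTm, f', hf'⟩ := hgk m
    obtain ⟨hwTm, hpTm⟩ := (mem_W D).1 hTm
    have h1 := act_polar g (k • d) (m • p)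
    rw [hfd, hf', B_eq D, B_eq D] at h1
    simp only [map_add, map_smul, LinearMap.add_apply, LinearMap.smul_apply, smul_eq_mul, hp.1, hp.2.2,
      β_comm D d p, β_comm D d w, hpd, hwd, hwTm, mul_zero, add_zero, zero_add, mul_one, map_zero,
      β_comm D d (T m)] at h1
    have h2 := hC k m
    rw [mul_sub, mul_smul_comm, mul_smul_comm, map_sub, map_smul, map_smul, smul_eq_mul, smul_eq_mul, mul_add,
      map_add, mul_comm m Y, mul_comm m k₀]
    linear_combination h1 + h2
  have hC'' : fd = D.χ (k₀ * k) • Y - D.χ (Y * k) • k₀ - β D (T k) d := eq_sub_of_add_eq hC'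
  simp only [hf, map_add, e1, e2, e3, hgw, hfd, x1, x2, x3, x4, hC'']
  module

/-- a root element on a line from each element `Y` -/
theorem exists_line_root (h4 : 4 ≤ Module.finrank K Vec) (hM : LinM (K := K) M) {g : Iso} {w w' : Vec} (hp : MaxPair D M g w w')
    (ha : ∀ i : K, β D (act g (i • w)) w' = 0) :
    ∃ (p : ι → F) (k₀ a : K), HPair D w p ∧ k₀ ≠ 0 ∧ a ≠ 0 ∧ (∀ Y : K, Dir M (k₀ • w) (Y • w)) ∧
      (∃ z' : ι → F, ∃ z : ι → F, ∀ v ∈ W D w p, β D v z = 0 → β D v z' = 0 → ∀ c : K, ∃ P ∈ M,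
        InR D w p P fun k => -(D.χ (k₀ * k) • ((a * c) • v))) ∧
      ∃ z ∈ W D w p, z ≠ 0 ∧ ∀ v ∈ W D w p, β D v z = 0 → ∃ c : K, c ≠ 0 ∧ ∃ s : F, ∀ t : F, ∃ P ∈ M,
        InR D w p P fun k => -(D.χ (k₀ * k) • (t • ((a * c) • v + s • z))) := by
  obtain ⟨hg, hw0, hw, hw'0, hw', htop⟩ := hp.1
  obtain ⟨j, hj⟩ : ∃ j, j ∉ sect K g w w' := by
    by_contra hc
    push Not at hc
    exact htop (eq_top_iff.2 fun k _ => hc k)
  obtain ⟨ρ, hρj, hρ⟩ := sect_hyperplane D hM hp ha hj
  obtain ⟨v₁, hv₁, hyv₁⟩ := exists_sep D hw'0 hw' (y := act g (j • w)) fun t h => hj (mem_sect.2 ⟨t, h.symm⟩)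
  obtain ⟨p, hpp⟩ := exists_pair D hw0 hw
  obtain ⟨a, hρa⟩ := exists_dual D ρ
  have ha0 : a ≠ 0 := fun e => by
    have := hρa j
    rw [hρj, e, zero_mul, map_zero] at this
    exact one_ne_zero this
  obtain ⟨t₀, ht₀, ht₀0⟩ := (Submodule.ne_bot_iff _).1 (cov_ne_bot D hp)
  obtain ⟨k₀, hk₀⟩ := mem_cov.1 ht₀
  have hk₀s : ρ k₀ = 0 := (hρ k₀).2 (mem_sect.2 ⟨t₀, hk₀.symm⟩)
  have hk₀0 : k₀ ≠ 0 := fun e => by
    rw [e, zero_smul, map_zero, eq_comm, smul_eq_zero] at hk₀
    exact hk₀.elim ht₀0 hw'0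
  set v' := t₀ • v₁ with hv'
  have hwv' : β D w' v' = 0 := by rw [hv', map_smul, hv₁, smul_zero]
  obtain ⟨h, hh, hhx⟩ := exists_conj D hM hg hw'0 hw' hwv'
  have hline : ∀ i : K, β D (act g (i • w)) v₁ = ρ i • (1 : K) := fun i => by
    have hi : i - ρ i • j ∈ sect K g w w' := (hρ _).1 (by rw [map_sub, map_smul, hρj, smul_eq_mul, mul_one, sub_self])
    obtain ⟨t, ht⟩ := mem_sect.1 hi
    rw [sub_smul, map_sub, smul_assoc, map_smul (act g) (ρ i)] at ht
    have := congrArg (fun x => β D x v₁) ht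
    simp only [map_sub, LinearMap.map_smul_of_tower, LinearMap.sub_apply, LinearMap.smul_apply, map_smul, hv₁,
      hyv₁, smul_zero] at this
    exact sub_eq_zero.1 this.symm
  have hhw : ∀ i : K, act h (i • w) = (i - ρ i • k₀) • w := fun i => act_injective g (by
    rw [hhx, elin_apply, ha, hv', (β D (act g (i • w))).map_smul t₀ v₁, hline, smul_eq_mul t₀, mul_smul_comm, mul_one,
      sub_smul, map_sub, smul_assoc, smul_assoc, map_smul (act g) (ρ i), hk₀]
    simp)
  have hhwi : ∀ i : K, act h⁻¹ (i • w) = (i + ρ i • k₀) • w := fun i => act_injective h (by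
    rw [act_cancel_inv, hhw, map_add, map_smul, hk₀s, smul_zero, add_zero, add_sub_cancel_right])
  have hperp : ∀ x, β D x w = 0 → β D (act h x) w = 0 ∧ β D (act h⁻¹ x) w = 0 := by
    intro x hx
    have h0 : ∀ s : K, B x (s • w) = 0 := fun s => by rw [← spec' D, hx, mul_zero, map_zero]
    constructor <;> refine chi_ext D fun s => ?_ <;> rw [spec', mul_zero, map_zero]
    · rw [← act_cancel_inv h (s • w), act_polar, hhwi]; exact h0 _
    · rw [← act_polar h, act_cancel_inv, hhw]; exact h0 _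
  -- the outside vector
  obtain ⟨e, he⟩ : ∃ e, e ∉ cov K g w w' := by
    by_contra hc
    push Not at hc
    exact cov_ne_top D hp.1 (eq_top_iff.2 fun k _ => hc k)
  obtain ⟨π, hπe, hπc⟩ : ∃ π : K →ₗ[F] F, π e = 1 ∧ ∀ t, π t = 0 → t ∈ cov K g w w' := by
    obtain ⟨φ, hφe, hφc⟩ := Submodule.exists_dual_map_eq_bot_of_notMem he inferInstance
    have hle : cov K g w w' ≤ LinearMap.ker φ := fun t ht => by
      have : φ t ∈ (cov K g w w').map φ := Submodule.mem_map_of_mem ht
      rwa [hφc, Submodule.mem_bot] at this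
    have hker : cov K g w w' = LinearMap.ker φ := by
      refine Submodule.eq_of_le_of_finrank_le hle ?_
      have e1 : sect K g w w' = LinearMap.ker ρ := by ext i; rw [LinearMap.mem_ker, hρ]
      have h1 := ρ.finrank_range_add_finrank_ker
      have h2 := φ.finrank_range_add_finrank_ker
      have h3 : 1 ≤ Module.finrank F (LinearMap.range φ) :=
        Submodule.one_le_finrank_iff.2 fun hb => hφe (by
          have : φ e ∈ LinearMap.range φ := ⟨e, rfl⟩
          rwa [hb, Submodule.mem_bot] at this)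
      have h4 := Submodule.finrank_le (LinearMap.range ρ)
      rw [Module.finrank_self] at h4
      rw [finrank_cov hw0 hw'0, e1]
      omega
    refine ⟨(φ e)⁻¹ • φ, by simp [inv_mul_cancel₀ hφe], fun t ht => ?_⟩
    rw [hker, LinearMap.mem_ker]
    simpa [hφe] using ht
  set z₁ := pr D w p (act g⁻¹ (e • w')) with hz₁
  have hz₀ : β D (act g⁻¹ (e • w')) w = 0 := chi_ext D fun s => by
    rw [spec', mul_zero, map_zero, ← act_polar g, act_cancel_inv, B_eq D]
    simp [β_comm D w', ha]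
  have hback : ∀ t : K, ∃ k : K, act g⁻¹ (t • w') = k • w + π t • z₁ := by
    intro t
    obtain ⟨k, hk⟩ := mem_cov.1 (hπc (t - π t • e) (by rw [map_sub, map_smul, hπe, smul_eq_mul, mul_one, sub_self]))
    have e1 : act g⁻¹ (t • w') = k • w + π t • act g⁻¹ (e • w') := act_injective g (by
      rw [map_add, map_smul (act g) (π t), act_cancel_inv, act_cancel_inv, hk, sub_smul, smul_assoc, sub_add_cancel])
    refine ⟨k + π t • β D (act g⁻¹ (e • w')) p, ?_⟩
    rw [e1, hz₁, pr, hz₀, zero_smul, sub_zero, add_smul, smul_assoc, smul_sub]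
    abel
  have hz₁W : z₁ ∈ W D w p := pr_mem D hpp _
  have hz₁0 : z₁ ≠ 0 := fun h0 => he (by
    obtain ⟨k, hk⟩ := hback e
    rw [h0, smul_zero, add_zero] at hk
    exact mem_cov.2 ⟨k, by rw [← hk, act_cancel_inv]⟩)
  -- vectors killed by the first functional
  have hmove : ∀ v ∈ W D w p, β D v z₁ = 0 → ∀ k : K, ∃ f : K,
      act h (k • v) = k • v - π (β D (act g (k • v)) v') • z₁ + f • w := by
    intro v hv hvz k
    have hgv : β D (act g (k • v)) w' = 0 := chi_ext D fun t => by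
      obtain ⟨k', hk'⟩ := hback t
      rw [spec', mul_zero, map_zero, ← act_cancel_inv g (t • w'), act_polar, hk', B_eq D]
      simp [β_comm D v w, ((mem_W D).1 hv).1, hvz]
    obtain ⟨k', hk'⟩ := hback (β D (act g (k • v)) v')
    refine ⟨-k', act_injective g ?_⟩
    have hk'' := congrArg (act g) hk'
    rw [act_cancel_inv, map_add, map_smul (act g) (π _)] at hk''
    rw [hhx, elin_apply, hgv, hk'', map_add, map_sub, map_smul (act g) (π _), neg_smul, map_neg]
    simp only [zero_smul, mul_zero, add_zero, sub_zero]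
    abel
  -- the conjugates of Eichler elements
  have hA : ∀ v ∈ W D w p, β D v z₁ = 0 → ∀ η : K, (∀ k, π (β D (act g (k • v)) v') = D.χ (η * k)) → ∀ c : K,
      ∃ A ∈ M, InR D w p A fun k => ((k - D.χ (k₀ * k) • a) * c) • v -
        D.χ (η * ((k - D.χ (k₀ * k) • a) * c)) • z₁ := by
    intro v hv hvz η hη c
    obtain ⟨hwv, hpv⟩ := (mem_W D).1 hv
    have hwcv : β D w (c • v) = 0 := by simp [hwv]
    obtain ⟨ec, hec, -, hecx⟩ := exists_eichK D hM hw0 hw hwcv
    refine ⟨h * ec * h⁻¹, mul_mem (mul_mem hh hec) (inv_mem hh), fun i => ?_, fun x hx => ?_, fun k => ?_⟩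
    · rw [act_mul, act_mul, hhwi, hecx, elin_apply]
      simp only [map_smul, LinearMap.smul_apply, hw, hwv, smul_zero, mul_zero, zero_smul, add_zero, sub_zero]
      rw [← hhwi, act_cancel_inv]
    · refine ⟨-(β D (act h⁻¹ x) (c • v) - ρ (β D (act h⁻¹ x) (c • v)) • k₀), ?_⟩
      rw [act_mul, act_mul, hecx, elin_apply, (hperp x hx).2]
      simp only [zero_smul, mul_zero, add_zero, sub_zero]
      rw [map_sub, act_cancel_inv, hhw, neg_smul, sub_eq_add_neg]
    · set t := k - D.χ (k₀ * k) • a with ht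
      refine ⟨(mem_W D).2 ?_, ?_⟩
      · obtain ⟨h1, h2⟩ := (mem_W D).1 hz₁W
        simp [LinearMap.map_smul_of_tower, hwv, hpv, h1, h2]
      have e1 : β D (act h⁻¹ (k • p)) w = t := chi_ext D fun s => by
        rw [spec', ← act_polar h, act_cancel_inv, hhw, polar_smul_smul D, hpp.pw D, mul_one, ht, mul_sub,
          mul_sub, mul_smul_comm, mul_smul_comm, map_sub, map_sub, map_smul, map_smul, hρa, smul_eq_mul, smul_eq_mul,
          mul_comm k s, mul_comm k k₀, mul_comm a s]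
        ring
      obtain ⟨f, hf⟩ := hmove v hv hvz (t * c)
      set σ := β D (act h⁻¹ (k • p)) (c • v) + β D (c • v) (c • v) / 2 * t
      refine ⟨f - (σ - ρ σ • k₀), ?_⟩
      have e2 : act ec (act h⁻¹ (k • p)) = act h⁻¹ (k • p) + (t * c) • v - σ • w := by
        rw [hecx, elin_apply, e1, smul_smul]
        simp only [σ, add_smul]
        abel
      rw [act_mul, act_mul, e2, map_sub, map_add, act_cancel_inv, hf, hhw, hη, sub_smul f]
      simp only [t]
      abel
  -- the formula for the commutator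
  have hroot : ∀ v ∈ W D w p, β D v z₁ = 0 → ∀ η : K, (∀ k, π (β D (act g (k • v)) v') = D.χ (η * k)) →
      ∀ c : K, ∀ d ∈ W D w p, ∀ Y : K,
      (∀ k m : K, -(D.χ (k₀ * k) * D.χ (a * c * β D v d * m)) + D.χ (k₀ * m) * D.χ (a * c * β D v d * k)
        - D.χ (η * c * k) * D.χ (β D z₁ d * m) + D.χ (η * c * m) * D.χ (β D z₁ d * k)
        + D.χ (η * (a * c)) * (D.χ (k₀ * k) * D.χ (β D z₁ d * m) - D.χ (k₀ * m) * D.χ (β D z₁ d * k)) =
        D.χ (k₀ * k) * D.χ (Y * m) - D.χ (Y * k) * D.χ (k₀ * m)) →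
      eich (k₀ • w) (Y • w) (sing_smul D hw k₀) (polar_line D hw k₀ Y) ∈ M := by
    intro v hv hvz η hη c d hd Y hY
    obtain ⟨A, hAM, hAR⟩ := hA v hv hvz η hη c
    obtain ⟨ed, hed, -, hedx⟩ := exists_eichK D hM hw0 hw ((mem_W D).1 hd).1
    rw [InR.comm D hpp hAR hd hedx fun k m => ?_]
    · exact mul_mem (mul_mem (mul_mem hAM hed) (inv_mem hAM)) (inv_mem hed)
    rw [← hY k m]
    have eG : ∀ k m : K, D.χ (m * β D (((k - D.χ (k₀ * k) • a) * c) • v -
        D.χ (η * ((k - D.χ (k₀ * k) • a) * c)) • z₁) d) =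
        D.χ (c * β D v d * (m * k)) - D.χ (k₀ * k) * D.χ (a * c * β D v d * m) -
          (D.χ (η * c * k) - D.χ (k₀ * k) * D.χ (η * (a * c))) * D.χ (β D z₁ d * m) := fun k m => by
      simp only [map_sub, LinearMap.map_smul_of_tower, map_smul, LinearMap.sub_apply, LinearMap.smul_apply,
        smul_eq_mul, sub_mul, smul_mul_assoc, mul_sub, mul_smul_comm, map_sub, map_smul]
      ring_nf
    rw [eG, eG, mul_comm k m]
    ring
  have hdual : ∀ v, ∃ η : K, ∀ k, π (β D (act g (k • v)) v') = D.χ (η * k) := fun v =>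
    exists_dual D (π.comp ((((β D).flip v').restrictScalars F).comp (mv K g v)))
  have hdir : ∀ Y : K, (∀ Y', eich (k₀ • w) (Y' • w) (sing_smul D hw k₀) (polar_line D hw k₀ Y') ∈ M) →
      Dir M (k₀ • w) (Y • w) := fun Y hall => ⟨sing_smul D hw k₀, polar_line D hw k₀ Y, fun s h1 h2 => by
    have e := eich_congr (show (s • Y) • w = s • Y • w from smul_assoc s Y w) h1 (by rw [smul_assoc]; exact h2)
    rw [← e]
    exact hall _⟩
  obtain ⟨z', hz'⟩ : ∃ z' : Vec, ∀ v, β D v z' = 0 → ∀ k : K, π (β D (act g (k • v)) v') = 0 := by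
    obtain ⟨e', he'⟩ := exists_dual D π
    refine ⟨act g⁻¹ (e' • v'), fun v hv k => ?_⟩
    rw [he', spec', ← act_cancel_inv g (e' • v'), act_polar, B_eq D]
    simp [hv]
  refine ⟨p, k₀, a, hpp, hk₀0, ha0, fun Y => hdir Y fun Y => ?_, ⟨z', z₁, fun v hv hvz hvz' c => ?_⟩,
    z₁, hz₁W, hz₁0, fun v hv hvz => ?_⟩
  · obtain ⟨h1, h2⟩ := (mem_W D).1 hz₁W
    have hd := h4
    have hW := two_le_W D w p
    obtain ⟨s, hs, hzs⟩ := nd_W D hpp z₁ hz₁W hz₁0
    by_cases hzz : β D z₁ z₁ = 0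
    · -- the vector itself
      obtain ⟨η, hη⟩ := hdual z₁
      by_cases hη0 : η = a * k₀
      · refine hroot z₁ hz₁W hzz η hη a⁻¹ ((-Y / 2 / β D z₁ s) • s) (Submodule.smul_mem _ _ hs) Y fun k m => ?_
        rw [map_smul, smul_eq_mul, div_mul_cancel₀ _ hzs, hη0]
        have e1 : a * k₀ * (a * a⁻¹) = a * k₀ := by rw [mul_inv_cancel₀ ha0, mul_one]
        rw [e1, mul_inv_cancel₀ ha0, one_mul, show a * k₀ * a⁻¹ = k₀ by field_simp, ← hρa, hk₀s, zero_mul, add_zero]
        have e2 : ∀ x : K, D.χ (-Y / 2 * x) = -(D.χ (Y * x) / 2) := fun x => by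
          have h2' : D.χ ((2 : K) * (-Y / 2 * x)) = 2 * D.χ (-Y / 2 * x) := by
            rw [two_mul, map_add, two_mul]
          rw [← mul_assoc, mul_div_cancel₀ _ (two_ne D), neg_mul, map_neg] at h2'
          refine mul_left_cancel₀ D.h2 ?_
          rw [← h2', mul_neg, mul_div_cancel₀ _ D.h2]
        rw [e2, e2]
        field_simp [D.h2]
        ring
      · refine hroot z₁ hz₁W hzz η hη (Y / (η - a * k₀)) ((k₀ / β D z₁ s) • s) (Submodule.smul_mem _ _ hs) Y
          fun k m => ?_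
        have hne : η - a * k₀ ≠ 0 := sub_ne_zero.2 hη0
        rw [map_smul, smul_eq_mul, div_mul_cancel₀ _ hzs]
        obtain ⟨c, hc⟩ : ∃ c, c = Y / (η - a * k₀) := ⟨_, rfl⟩
        have hYc : Y = c * η - a * c * k₀ := by
          rw [hc]; field_simp
        rw [← hc, hYc]
        simp only [sub_mul, map_sub, mul_comm η c]
        ring
    · -- an orthogonal vector
      obtain ⟨v, hv, hv0, hvz⟩ := exists_ker D (S := W D w p) ![z₁] (by omega)
      have evz : β D v z₁ = 0 := by rw [β_comm]; exact hvz 0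
      obtain ⟨d, hd', hzd, hvd⟩ : ∃ d ∈ W D w p, β D z₁ d = 0 ∧ β D v d ≠ 0 := by
        obtain ⟨x, hx, hvx⟩ := nd_W D hpp v hv hv0
        refine ⟨x - (β D z₁ x / β D z₁ z₁) • z₁, Submodule.sub_mem _ hx (Submodule.smul_mem _ _ hz₁W), ?_, ?_⟩
        · rw [map_sub, map_smul, smul_eq_mul, div_mul_cancel₀ _ hzz, sub_self]
        · rwa [map_sub, map_smul, evz, smul_zero, sub_zero]
      obtain ⟨η, hη⟩ := hdual v
      refine hroot v hv evz η hη (-Y / (a * β D v d)) d hd' Y fun k m => ?_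
      have e1 : a * (-Y / (a * β D v d)) * β D v d = -Y := by field_simp
      rw [e1, hzd]
      simp only [zero_mul, map_zero, neg_mul, map_neg]
      ring
  · obtain ⟨A, hAM, hAR⟩ := hA v hv hvz 0 (fun k => by rw [zero_mul, map_zero]; exact hz' v hvz' k) c
    obtain ⟨hwv, hpv⟩ := (mem_W D).1 hv
    obtain ⟨ec, hec, -, hecx⟩ := exists_eichK D hM hw0 hw (v := (-c) • v) (by simp [hwv])
    refine ⟨A * ec, mul_mem hAM hec, fun i => ?_, fun x hx => ?_, fun k => ⟨?_, ?_⟩⟩
    · rw [act_mul, hecx, elin_apply]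
      simp [hw, hwv, hAR.1]
    · obtain ⟨f, hf⟩ := hAR.2.1 x hx
      rw [act_mul, hecx, elin_apply, hx]
      simp only [zero_smul, mul_zero, add_zero, sub_zero, map_sub, hAR.1, hf]
      exact ⟨f - β D x ((-c) • v), by module⟩
    · exact Submodule.neg_mem _ (Submodule.smul_of_tower_mem _ _ (Submodule.smul_mem _ _ hv))
    · obtain ⟨hTk, f, hf⟩ := hAR.2.2 k
      have hkv : β D ((k * -c) • v) w = 0 := by simp [β_comm D v w, hwv]
      obtain ⟨f', hf'⟩ := hAR.2.1 _ hkv
      rw [act_mul, hecx, elin_apply]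
      simp only [map_smul, LinearMap.smul_apply, hpp.pw D, hpv, smul_zero, zero_smul, sub_zero, smul_eq_mul,
        mul_one, smul_smul, map_sub, map_add, hAR.1, hf, hf']
      exact ⟨f + f' - β D ((-c) • v) ((-c) • v) / 2 * k, by
        simp only [zero_mul, map_zero, zero_smul, sub_zero, map_smul, LinearMap.smul_apply, smul_eq_mul]
        match_scalars <;> (try simp only [Algebra.smul_def, map_one]) <;> ring⟩
  · obtain ⟨η, hη⟩ := hdual v
    obtain ⟨c, hc, s, hcs⟩ : ∃ c : K, c ≠ 0 ∧ ∃ s : F, η * c = s • k₀ := by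
      rcases eq_or_ne η 0 with rfl | hη0
      · exact ⟨1, one_ne_zero, 0, by simp⟩
      · exact ⟨k₀ / η, div_ne_zero hk₀0 hη0, 1, by rw [one_smul, mul_div_cancel₀ _ hη0]⟩
    refine ⟨c, hc, s, fun t => ?_⟩
    obtain ⟨A, hAM, hAR⟩ := hA v hv hvz η hη (t • c)
    obtain ⟨hwv, hpv⟩ := (mem_W D).1 hv
    obtain ⟨ec, hec, -, hecx⟩ := exists_eichK D hM hw0 hw (v := (-(t • c)) • v) (by simp [hwv])
    refine ⟨A * ec, mul_mem hAM hec, fun i => ?_, fun x hx => ?_, fun k => ⟨?_, ?_⟩⟩
    · rw [act_mul, hecx, elin_apply]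
      simp [hw, hwv, hAR.1]
    · obtain ⟨f, hf⟩ := hAR.2.1 x hx
      rw [act_mul, hecx, elin_apply, hx]
      simp only [zero_smul, mul_zero, add_zero, sub_zero, map_sub, hAR.1, hf]
      exact ⟨f - β D x ((-(t • c)) • v), by module⟩
    · exact Submodule.neg_mem _ (Submodule.smul_of_tower_mem _ _ (Submodule.smul_of_tower_mem _ _
        (Submodule.add_mem _ (Submodule.smul_mem _ _ hv) (Submodule.smul_of_tower_mem _ _ hz₁W))))
    · obtain ⟨hTk, f, hf⟩ := hAR.2.2 k
      have hkv : β D ((k * -(t • c)) • v) w = 0 := by simp [β_comm D v w, hwv]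
      obtain ⟨f', hf'⟩ := hAR.2.1 _ hkv
      rw [act_mul, hecx, elin_apply]
      simp only [map_smul, LinearMap.smul_apply, hpp.pw D, hpv, smul_zero, zero_smul, sub_zero, smul_eq_mul,
        mul_one, smul_smul, map_sub, map_add, hAR.1, hf, hf']
      refine ⟨f + f' - β D ((-(t • c)) • v) ((-(t • c)) • v) / 2 * k, ?_⟩
      have e1 : D.χ (η * ((k - D.χ (k₀ * k) • a) * (t • c))) = t * (s * D.χ (k₀ * k)) := by
        have ez : D.χ (k₀ * a) = 0 := by rw [mul_comm, ← hρa, hk₀s]
        rw [show η * ((k - D.χ (k₀ * k) • a) * (t • c)) = t • ((η * c) * (k - D.χ (k₀ * k) • a)) by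
          rw [mul_smul_comm, mul_smul_comm]; congr 1; ring, hcs, smul_mul_assoc, map_smul, map_smul, mul_sub,
          mul_smul_comm, map_sub, map_smul, ez, smul_eq_mul, smul_eq_mul, smul_eq_mul, mul_zero, sub_zero]
      simp only [e1, zero_mul, map_zero, zero_smul, sub_zero, map_smul, LinearMap.smul_apply, smul_eq_mul]
      match_scalars <;> (try simp only [Algebra.smul_def, map_one, map_mul]) <;> ring

end Cfsg.Agent.Forms.Max.OrthExtField
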