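import Mathlib
import Cfsg.Agent.Lib.Forms.Max.OrthExtField.Roots

/-!
# From one root element to all of them

The root elements with both vectors on one singular line spread to all singular lines, and from there to
everything orthogonal to a vector of such a line.
-/

set_option autoImplicit false
set_option linter.unusedSectionVars false

namespace Cfsg.Agent.Forms.Max.OrthExtField

open Matrix Cfsg.Agent.Forms.QuadStd Cfsg.Agent.Forms.Reflections Cfsg.Agent.Classical.Orth
open Cfsg.Agent.Forms.Max.OrthBlocks (Dir)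

variable {F : Type*} [Field F] [Fintype F] {ι : Type} [Fintype ι] [DecidableEq ι]
variable {K : Type*} [Field K] [Algebra F K] [FiniteDimensional F K]
variable [Module K (ι → F)] [IsScalarTower F K (ι → F)]
variable {Q : QuadraticForm F (ι → F)}

local notation "Vec" => (ι → F)
local notation "B" => QuadraticMap.polar Q
set_option quotPrecheck false in
local notation "Iso" => Cfsg.isometryGroup F ⇑Q

variable (D : Data K Q) {M : Subgroup (Cfsg.isometryGroup F ⇑Q)}

theorem dir_zero {u : Vec} (hu : Q u = 0) : Dir M u (0 : Vec) :=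
  ⟨hu, QuadraticMap.polar_zero_right _ _, fun s h h' => by
    have e : eich u (s • (0 : Vec)) h h' = 1 := by
      rw [eich_congr (smul_zero s) h h', eich_zero_right]
    rw [e]
    exact one_mem M⟩

theorem exists_one : ∃ c : K, D.χ c = 1 := by
  obtain ⟨c, hc⟩ : ∃ c, D.χ c ≠ 0 := by
    by_contra h
    push Not at h
    exact D.hχ (LinearMap.ext h)
  exact ⟨(D.χ c)⁻¹ • c, by rw [map_smul, smul_eq_mul, inv_mul_cancel₀ hc]⟩

/-- all root elements with both vectors on a line -/
def Full (K : Type*) [Field K] [Algebra F K] [Module K (ι → F)] (M : Subgroup (Cfsg.isometryGroup F ⇑Q))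
    (w : ι → F) : Prop := ∀ i l : K, Dir M (i • w) (l • w)

/-- all root elements beside a line -/
def Side (M : Subgroup (Cfsg.isometryGroup F ⇑Q)) (w : ι → F) : Prop :=
  ∀ (k : K) (x : ι → F), β D x w = 0 → Dir M (k • w) x

theorem full_of_line (hM : LinM (K := K) M) {w p : Vec} (hp : HPair D w p) {k₀ : K} (hk₀ : k₀ ≠ 0)
    (h : ∀ Y : K, Dir M (k₀ • w) (Y • w)) : Full K M w := by
  intro i l
  obtain ⟨a, b, hab⟩ := exists_two_squares D (l / k₀)
  have hsq : ∀ a : K, Dir M (i • w) ((a * a * k₀) • w) := by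
    intro a
    rcases eq_or_ne a 0 with rfl | ha
    · simpa using dir_zero (M := M) (sing_smul D hp.1 i)
    obtain ⟨g, hg, hgw, -, -, -⟩ := exists_torus D hM hp ha
    have h1 := (h (i / (a * a))).map hg
    rw [hgw, hgw, mul_div_cancel₀ _ (mul_ne_zero ha ha)] at h1
    exact h1.flip (sing_smul D hp.1 i)
  have := (hsq a).add (hsq b)
  rwa [← add_smul, ← add_mul, hab, div_mul_cancel₀ _ hk₀] at this

/-- a linear element of `M` moves one singular line to another -/
theorem exists_move (hM : LinM (K := K) M) {w v : Vec} (hw0 : w ≠ 0) (hw : β D w w = 0) (hv0 : v ≠ 0)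
    (hv : β D v v = 0) :
    ∃ g ∈ M, ∃ c : K, c ≠ 0 ∧ act g w = c • v ∧ ∀ (k : K) x, act g (k • x) = k • act g x := by
  have hd := D.hd
  obtain ⟨p, hp⟩ := exists_pair D hw0 hw
  obtain ⟨e, hee, hwe, hve⟩ : ∃ e, β D e e = 0 ∧ β D w e = 1 ∧ β D v e ≠ 0 := by
    by_cases hvp : β D v p ≠ 0
    · exact ⟨p, hp.2.1, hp.2.2, hvp⟩
    push Not at hvp
    have key : ∀ c ∈ W D w p, β D v c - β D c c / 2 * β D v w ≠ 0 →
        ∃ e, β D e e = 0 ∧ β D w e = 1 ∧ β D v e ≠ 0 := by
      intro c hc hne
      obtain ⟨h1, h2⟩ := (mem_W D).1 hc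
      refine ⟨p + c - (β D c c / 2) • w, ?_, ?_, ?_⟩
      · simp only [map_add, map_sub, map_smul, LinearMap.add_apply, LinearMap.sub_apply, LinearMap.smul_apply,
          smul_eq_mul, hp.1, hp.2.1, hp.2.2, hp.pw D, h1, h2, β_comm D c w, β_comm D c p]
        field_simp [two_ne D]
        ring
      · simp [hp.1, hp.2.2, h1]
      · simp only [map_add, map_sub, map_smul, smul_eq_mul, hvp, zero_add]
        exact hne
    by_cases hvw : β D v w = 0
    · have hvW : v ∈ W D w p := (mem_W D).2 ⟨by rw [β_comm]; exact hvw, by rw [β_comm]; exact hvp⟩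
      obtain ⟨c, hc, hvc⟩ := nd_W D hp v hvW hv0
      exact key c hc (by rw [hvw, mul_zero, sub_zero]; exact hvc)
    · obtain ⟨c, hc, hcc⟩ := exists_nonsing D hp
      by_cases h1 : β D v c - β D c c / 2 * β D v w ≠ 0
      · exact key c hc h1
      push Not at h1
      refine key (-c) (Submodule.neg_mem _ hc) fun h2 => hvw ?_
      simp only [map_neg, LinearMap.neg_apply, neg_neg] at h1 h2
      field_simp [two_ne D] at h1 h2
      have h3 : (2 : K) * (β D c c * β D v w) = 0 := by linear_combination -h1 - h2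
      exact (mul_eq_zero.1 ((mul_eq_zero.1 h3).resolve_left (two_ne D))).resolve_left hcc
  set c := (β D v e)⁻¹ with hc
  have he0 : e ≠ 0 := fun h => hve (by rw [h, map_zero])
  have hex : β D e (c • v - w) = 0 := by
    simp [hc, β_comm D e v, β_comm D e w, hwe, inv_mul_cancel₀ hve]
  obtain ⟨g, hg, -, hgx⟩ := exists_eichK D hM he0 hee hex
  refine ⟨g, hg, c, inv_ne_zero hve, ?_, fun k x => by rw [hgx, hgx, map_smul]⟩
  rw [hgx, elin_apply]
  simp only [map_sub, map_smul, LinearMap.sub_apply, LinearMap.smul_apply, smul_eq_mul, hwe, hw, hv, β_comm D v w,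
    one_smul, mul_one, mul_zero, sub_zero, zero_sub]
  match_scalars <;> field_simp [two_ne D] <;> ring

theorem full_all (hM : LinM (K := K) M) {w : Vec} (hw0 : w ≠ 0) (hw : β D w w = 0) (h : Full K M w) {v : Vec}
    (hv0 : v ≠ 0) (hv : β D v v = 0) : Full K M v := by
  obtain ⟨g, hg, c, hc, hgw, hgl⟩ := exists_move D hM hw0 hw hv0 hv
  intro i l
  have := (h (i / c) (l / c)).map hg
  rwa [hgl, hgl, hgw, smul_smul, smul_smul, div_mul_cancel₀ _ hc, div_mul_cancel₀ _ hc] at this

theorem side_all (hM : LinM (K := K) M) {w : Vec} (hw0 : w ≠ 0) (hw : β D w w = 0) (h : Side D M w) {v : Vec}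
    (hv0 : v ≠ 0) (hv : β D v v = 0) : Side D M v := by
  obtain ⟨g, hg, c, hc, hgw, hgl⟩ := exists_move D hM hw0 hw hv0 hv
  intro i x hx
  have hx' : β D (act g⁻¹ x) w = 0 := chi_ext D fun s => by
    rw [spec', mul_zero, map_zero, ← act_polar g, act_cancel_inv, hgl, hgw, smul_smul, ← spec' D, hx, mul_zero,
      map_zero]
  have := (h (i / c) (act g⁻¹ x) hx').map hg
  rwa [hgl, hgw, smul_smul, div_mul_cancel₀ _ hc, act_cancel_inv] at this

theorem side_of_parts {w p : Vec} (hp : HPair D w p) (hl : Full K M w)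
    (h : ∀ k : K, ∀ d ∈ W D w p, Dir M (k • w) d) : Side D M w := by
  intro k x hx
  rw [pr_add D w p x, hx, zero_smul, add_zero]
  exact (hl k _).add (h k _ (pr_mem D hp x))

/-- off a line, in rank at least three -/
theorem off_of_three (h3 : 3 ≤ Module.finrank F K) (hf : ∀ v, v ≠ 0 → β D v v = 0 → Full K M v) {w p' : Vec}
    (hp' : HPair D w p') {k l : K} (hkl : D.χ (k * l) = 0) : Dir M (k • w) (l • p') := by
  have hw0 := hp'.ne D
  have hw := hp'.1
  rcases eq_or_ne l 0 with rfl | hl0
  · rw [zero_smul]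
    exact dir_zero (sing_smul D hw k)
  let φ : K →ₗ[F] F := D.χ.comp (LinearMap.mulLeft F k)
  have hker : 2 ≤ Module.finrank F (LinearMap.ker φ) := by
    have h1 := φ.finrank_range_add_finrank_ker
    have h2 := Submodule.finrank_le (LinearMap.range φ)
    rw [Module.finrank_self] at h2
    omega
  have hl : l ∈ LinearMap.ker φ := hkl
  obtain ⟨i, hi, hil⟩ : ∃ i ∈ LinearMap.ker φ, i ∉ (F ∙ l) := SetLike.exists_of_lt
    (lt_of_le_of_ne ((Submodule.span_singleton_le_iff_mem _ _).2 hl) fun h => by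
      rw [← h, finrank_span_singleton hl0] at hker
      omega) |>.imp fun _ h => ⟨h.1, h.2⟩
  obtain ⟨ψ, hψi, hψl⟩ := Submodule.exists_dual_map_eq_bot_of_notMem hil inferInstance
  obtain ⟨y, hy⟩ := exists_dual D ((ψ i)⁻¹ • ψ)
  have hyi : D.χ (y * i) = 1 := by
    rw [← hy, LinearMap.smul_apply, smul_eq_mul, inv_mul_cancel₀ hψi]
  have hyl : D.χ (y * l) = 0 := by
    have : ψ l ∈ (F ∙ l).map ψ := Submodule.mem_map_of_mem (Submodule.mem_span_singleton_self l)
    rw [hψl, Submodule.mem_bot] at this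
    rw [← hy, LinearMap.smul_apply, this, smul_zero]
  have hX := hf p' (HPair.symm D hp').ne hp'.2.1 i l
  have h1 := (hf w hw0 hw k y).map hX.mem
  have hki : D.χ (k * i) = 0 := hi
  rw [act_eich, act_eich, polar_smul_smul D, polar_smul_smul D, polar_smul_smul D, polar_smul_smul D, hp'.2.2,
    mul_one, mul_one, mul_one, mul_one, hki, hkl, hyi, hyl, sing_smul D hp'.2.1] at h1
  simp only [zero_smul, mul_zero, zero_mul, one_smul, add_zero, sub_zero] at h1
  have h2 := h1.sub (hf w hw0 hw k y)
  rwa [add_sub_cancel_left] at h2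

/-- beside a line, in rank at least three -/
theorem side_of_three (h3 : 3 ≤ Module.finrank F K) (hf : ∀ v, v ≠ 0 → β D v v = 0 → Full K M v) {w : Vec}
    (hw0 : w ≠ 0) (hw : β D w w = 0) : Side D M w := by
  obtain ⟨p, hp⟩ := exists_pair D hw0 hw
  refine side_of_parts D hp (hf w hw0 hw) fun k d hd => ?_
  rcases eq_or_ne k 0 with rfl | hk
  · rw [zero_smul]
    exact ⟨Orth.map_zero', QuadraticMap.polar_zero_left _ _, fun s h h' => by rw [eich_zero_left]; exact one_mem M⟩
  obtain ⟨l, hkl, hl0⟩ : ∃ l : K, D.χ (k * l) = 0 ∧ l ≠ 0 := by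
    let φ : K →ₗ[F] F := D.χ.comp (LinearMap.mulLeft F k)
    obtain ⟨l, hl, hl0⟩ := (Submodule.ne_bot_iff _).1 (show LinearMap.ker φ ≠ ⊥ from fun h => by
      have h1 := φ.finrank_range_add_finrank_ker
      have h2 := Submodule.finrank_le (LinearMap.range φ)
      rw [Module.finrank_self] at h2
      rw [h, finrank_bot] at h1
      omega)
    exact ⟨l, hl, hl0⟩
  have off : ∀ p', HPair D w p' → Dir M (k • w) (l • p') := fun p' hp' => off_of_three D h3 hf hp' hkl
  obtain ⟨h1, h2⟩ := (mem_W D).1 (Submodule.smul_mem _ l⁻¹ hd)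
  set d' := l⁻¹ • d with hd'
  have h3' := (off (p + d' - (β D d' d' / 2) • w) ⟨hw, ?_, by simp [hp.2.2, h1, hw]⟩).sub (off p hp)
  · have h4 := h3'.add (hf w hw0 hw k (l * (β D d' d' / 2)))
    rw [mul_smul, smul_sub, smul_add, hd', smul_smul l l⁻¹, mul_inv_cancel₀ hl0, one_smul] at h4
    convert h4 using 1
    abel
  · simp only [map_add, map_sub, map_smul, LinearMap.add_apply, LinearMap.sub_apply, LinearMap.smul_apply,
      smul_eq_mul, hp.1, hp.2.1, hp.2.2, hp.pw D, h1, h2, β_comm D d' w, β_comm D d' p]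
    field_simp [two_ne D]
    ring

/-- beside a line, in rank two -/
theorem side_of_two (hM : LinM (K := K) M) (h5 : 5 ≤ Module.finrank K Vec) (hr2 : Module.finrank F K = 2)
    {w p : Vec} (hp : HPair D w p) (hfull : Full K M w) {k₀ a : K} (hk₀ : k₀ ≠ 0) (ha0 : a ≠ 0) {z z' : Vec}
    (hP : ∀ v ∈ W D w p, β D v z = 0 → β D v z' = 0 → ∀ c : K, ∃ P ∈ M,
      InR D w p P fun k => -(D.χ (k₀ * k) • ((a * c) • v))) : Side D M w := by
  haveI : Finite K := Module.finite_of_finite F
  haveI : Fintype K := Fintype.ofFinite K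
  obtain ⟨b, hb⟩ : ∃ b : K, b * b = -1 := by
    obtain ⟨b, hb⟩ : IsSquare (-1 : K) := FiniteField.isSquare_neg_one_iff.2 (by
      have hq : Odd (Fintype.card F) := Nat.odd_iff.2
        (FiniteField.odd_card_of_char_ne_two fun hc => D.h2 (by
          have : CharP F 2 := hc ▸ ringChar.charP F
          exact CharTwo.two_eq_zero))
      rw [Module.card_eq_pow_finrank (K := F) (V := K), hr2]
      obtain ⟨m, hm⟩ := hq
      rw [hm, show (2 * m + 1) ^ 2 = 4 * (m * m + m) + 1 by ring]
      omega)
    exact ⟨b, hb.symm⟩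
  obtain ⟨τ, hτ, hτw, hτp, hτW, -⟩ := exists_torus D hM hp (a := b) (fun e => by simp [e] at hb)
  have hτw' : ∀ k : K, act τ (k • w) = -(k • w) := fun k => by rw [hτw, hb, neg_one_mul, neg_smul]
  have hτp' : ∀ k : K, act τ (k • p) = -(k • p) := fun k => by
    have := hτp (-k)
    rwa [hb, neg_one_mul, neg_neg, neg_smul] at this
  -- the commutator with the involution
  have hX : ∀ v ∈ W D w p, β D v z = 0 → β D v z' = 0 → ∀ c : K, Dir M (k₀ • w) (c • v) := by
    intro v hv hvz hvz' c
    obtain ⟨hwv, hpv⟩ := (mem_W D).1 hv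
    have hperp : ∀ s : K, B (k₀ • w) (s • v) = 0 := fun s => by
      rw [polar_smul_smul D, hwv, mul_zero, map_zero]
    refine ⟨sing_smul D hp.1 k₀, hperp c, fun s hu hus => ?_⟩
    -- the vector of the commutator
    set c' : K := -((2 : K)⁻¹ * a⁻¹ * (s • c)) with hc'
    obtain ⟨P, hPM, hPw, hPp, hPk⟩ := hP v hv hvz hvz' c'
    set y : Vec := (a * c') • v with hy
    have hz : s • c • v = -(y + y) := by
      rw [hy, ← smul_assoc, ← add_smul, ← neg_smul]
      congr 1
      rw [hc']
      field_simp [two_ne D]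
      ring
    suffices h : P * τ = eich (k₀ • w) (s • c • v) hu hus * τ * P by
      have e : eich (k₀ • w) (s • c • v) hu hus = P * τ * P⁻¹ * τ⁻¹ := by rw [h]; group
      rw [e]
      exact mul_mem (mul_mem (mul_mem hPM hτ) (inv_mem hPM)) (inv_mem hτ)
    have hyw : ∀ k : K, B (k • w) y = 0 := fun k => by rw [hy, polar_smul_smul D, hwv, mul_zero, map_zero]
    have hyp : ∀ k : K, B (k • p) y = 0 := fun k => by rw [hy, polar_smul_smul D, hpv, mul_zero, map_zero]
    have hus' : B (k₀ • w) (-(y + y)) = 0 := hz ▸ hus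
    rw [eich_congr hz hu hus]
    set X := eich (k₀ • w) (-(y + y)) hu hus'
    have hXw : ∀ k : K, act X (k • w) = k • w := fun k =>
      act_eich_fix _ _ (polar_line D hp.1 _ _) (by rw [QuadraticMap.polar_neg_right, QuadraticMap.polar_add_right, hyw, add_zero, neg_zero])
    have hXW : ∀ d ∈ W D w p, act X d = d + (B d y + B d y) • k₀ • w := fun d hd => by
      rw [act_eich, ← spec' D, β_comm D d w, ((mem_W D).1 hd).1, mul_zero, map_zero,
        QuadraticMap.polar_neg_right, QuadraticMap.polar_add_right]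
      module
    refine act_ext fun x => ?_
    rw [act_mul, act_mul, act_mul, pr_add D w p x]
    simp only [map_add]
    congr 1
    · congr 1
      · simp only [hPw, hτw', map_neg, hXw]
      · set d := pr D w p x
        have hd := pr_mem D hp x
        obtain ⟨f, hf⟩ := hPp d (by rw [β_comm]; exact ((mem_W D).1 hd).1)
        have hf2 : f = B d y • k₀ := chi_ext D fun k => by
          obtain ⟨-, f', hf'⟩ := hPk k
          have h1 := act_polar P d (k • p)
          rw [hf, hf'] at h1
          have e1 : B d (f' • w) = 0 := by rw [← spec' D, β_comm, ((mem_W D).1 hd).1, mul_zero, map_zero]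
          have e2 : B (f • w) (k • p) = D.χ (f * k) := by rw [polar_smul_smul D, hp.2.2, mul_one]
          simp only [QuadraticMap.polar_add_left, QuadraticMap.polar_add_right, QuadraticMap.polar_neg_right,
            QuadraticMap.polar_smul_right, smul_eq_mul, hyw, e1, e2, polar_line D hp.1] at h1
          rw [mul_smul_comm, map_smul, smul_eq_mul, mul_comm k f, mul_comm k k₀]
          linear_combination h1
        rw [hτW d hd, hf, map_add, map_add, hτW d hd, hτw', map_neg, hXw, hXW d hd, hf2, smul_assoc]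
        module
    · generalize β D x w = k
      obtain ⟨-, f, hf⟩ := hPk k
      rw [hτp', map_neg, hf]
      simp only [map_add, map_neg, hτp', hτw', hXw]
      have hyW : y ∈ W D w p := Submodule.smul_mem _ _ hv
      rw [map_smul (act τ) (D.χ (k₀ * k)), hτW y hyW, map_smul (act X) (D.χ (k₀ * k)), hXW y hyW, act_eich,
        polar_smul_smul D, hp.pw D, mul_one, QuadraticMap.polar_neg_right, QuadraticMap.polar_add_right, hyp,
        QuadraticMap.map_neg, Classical.Orth.map_add', polar_self', two_mul, mul_comm k k₀]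
      module
  -- everything in the orthogonal of the pair
  let T : K → Submodule K Vec := fun k =>
    { carrier := {x | ∀ c : K, Dir M (k • w) (c • x)}
      zero_mem' := fun c => by rw [smul_zero]; exact dir_zero (sing_smul D hp.1 k)
      add_mem' := fun {x y} hx hy c => by rw [smul_add]; exact (hx c).add (hy c)
      smul_mem' := fun s {x} hx c => by rw [smul_smul]; exact hx _ }
  have hW := two_le_W D w p
  have hW₀ : W D w p ≤ T k₀ := by
    obtain ⟨v, hv, hv0, hvz⟩ := exists_ker D (S := W D w p) ![z, z'] (by omega)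
    have hvT : v ∈ T k₀ := hX v hv (by rw [β_comm]; exact hvz 0) (by rw [β_comm]; exact hvz 1)
    obtain ⟨e, he, hee, hve⟩ := exists_sing_meet D (nd_W D hp) (by omega) (nd_W D hp v hv hv0)
    have he0 : e ≠ 0 := fun h => hve (by rw [h, map_zero])
    obtain ⟨hwe, hpe⟩ := (mem_W D).1 he
    -- images under Eichler elements inside the orthogonal
    have hE : ∀ y ∈ W D w p, β D e y = 0 → ∀ x ∈ T k₀, elin D e y x ∈ T k₀ := by
      intro y hy hey x hx c
      obtain ⟨E, hE, -, hEx⟩ := exists_eichK D hM he0 hee hey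
      have h1 := (hx c).map hE
      have hfix : elin D e y (k₀ • w) = k₀ • w := by
        rw [elin_apply]
        simp [hwe, ((mem_W D).1 hy).1]
      rwa [hEx, hEx, hfix, map_smul] at h1
    obtain ⟨e', he', hee', hee1⟩ := exists_pair_in D (nd_W D hp) he he0 hee
    obtain ⟨y, hy, hey, hyy⟩ : ∃ y ∈ W D w p, β D e y = 0 ∧ β D y y ≠ 0 := by
      obtain ⟨y, hy, hy0, hyk⟩ := exists_ker D (S := W D w p) ![e, e'] (by omega)
      have h1 : β D e y = 0 := hyk 0
      have h2 : β D e' y = 0 := hyk 1
      by_cases hyy : β D y y = 0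
      swap
      · exact ⟨y, hy, h1, hyy⟩
      obtain ⟨s, hs, hys⟩ := nd_W D hp y hy hy0
      set s' := s - β D e s • e' with hs'
      have hs'W : s' ∈ W D w p := Submodule.sub_mem _ hs (Submodule.smul_mem _ _ he')
      have h3 : β D e s' = 0 := by simp [hs', hee1]
      have h4 : β D y s' ≠ 0 := by simpa [hs', β_comm D y e', h2] using hys
      by_cases hss : β D s' s' = 0
      swap
      · exact ⟨s', hs'W, h3, hss⟩
      refine ⟨y + s', Submodule.add_mem _ hy hs'W, by rw [map_add, h1, h3, add_zero], ?_⟩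
      simp only [map_add, LinearMap.add_apply, hyy, hss, β_comm D s' y, add_zero, zero_add, ← two_mul]
      exact mul_ne_zero (two_ne D) h4
    have heT : e ∈ T k₀ := by
      have h1 := hE y hy hey v hvT
      have h2 := hE (-y) (Submodule.neg_mem _ hy) (by rw [map_neg, hey, neg_zero]) v hvT
      have h3 := (T k₀).smul_mem (-(β D y y * β D v e)⁻¹)
        (Submodule.sub_mem _ (Submodule.add_mem _ h1 h2) (Submodule.add_mem _ hvT hvT))
      rw [elin_apply, elin_apply] at h3
      simp only [map_neg, LinearMap.neg_apply, neg_neg, smul_neg, neg_smul] at h3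
      convert h3 using 1
      match_scalars <;> field_simp [two_ne D] <;> ring
    have hperpT : ∀ x ∈ W D w p, β D e x = 0 → x ∈ T k₀ := by
      intro x hx hex
      have h1 := (T k₀).smul_mem (β D v e)⁻¹ (Submodule.add_mem _
        (Submodule.sub_mem _ (hE x hx hex v hvT) hvT)
        ((T k₀).smul_mem (β D v x + β D x x / 2 * β D v e) heT))
      rw [elin_apply] at h1
      convert h1 using 1
      match_scalars <;> field_simp [two_ne D] <;> ring
    intro x hx
    have e1 : x = (x - (β D e x / β D e v) • v) + (β D e x / β D e v) • v := by abel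
    rw [e1]
    refine Submodule.add_mem _ (hperpT _ (Submodule.sub_mem _ hx (Submodule.smul_mem _ _ hv)) ?_)
      ((T k₀).smul_mem _ hvT)
    rw [map_sub, map_smul, smul_eq_mul, div_mul_cancel₀ _ (by rwa [β_comm]), sub_self]
  refine side_of_parts D hp hfull fun k d hd => ?_
  have hk : W D w p ≤ T k := sing_span D (nd_W D hp) (by omega) fun e he hee c => by
    obtain ⟨u, u', hu⟩ := exists_two_squares D (k / k₀)
    have hsq : ∀ u : K, Dir M (c • e) ((u * u * k₀) • w) := by
      intro u
      rcases eq_or_ne u 0 with rfl | hu0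
      · simpa using dir_zero (M := M) (sing_smul D hee c)
      obtain ⟨g, hg, hgw, -, hgW, -⟩ := exists_torus D hM hp hu0
      have h1 := ((hW₀ he c).flip (sing_smul D hee c)).map hg
      rwa [hgw, hgW _ (Submodule.smul_mem _ c he)] at h1
    have := (hsq u).add (hsq u')
    rw [← add_smul, ← add_mul, hu, div_mul_cancel₀ _ hk₀] at this
    exact this.flip (sing_smul D hp.1 k)
  have := hk hd 1
  rwa [one_smul] at this

/-- off a line, from what is beside the lines -/
theorem off_of_side (hs : ∀ v, v ≠ 0 → β D v v = 0 → Side D M v) {w p : Vec} (hp : HPair D w p) {b : Vec}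
    (hb : b ∈ W D w p) (hb0 : b ≠ 0) (hbb : β D b b = 0) {k l : K} (hkl : D.χ (k * l) = 0) :
    Dir M (k • w) (l • p) := by
  obtain ⟨hwb, hpb⟩ := (mem_W D).1 hb
  obtain ⟨b', hb', hbb', hb1⟩ := exists_pair_in D (nd_W D hp) hb hb0 hbb
  obtain ⟨c, hc⟩ : ∃ c : K, D.χ c = 1 := exists_one D
  have hX := hs b hb0 hbb 1 (l • p) (by simp [hpb])
  have h0 := hs w (hp.ne D) hp.1 k (c • b') (by simp [β_comm D b' w, ((mem_W D).1 hb').1])
  have h1 := h0.map hX.mem
  rw [act_eich, act_eich, polar_smul_smul D, polar_smul_smul D, polar_smul_smul D, polar_smul_smul D, hwb, hp.2.2,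
    β_comm D b' b, hb1, β_comm D b' p, ((mem_W D).1 hb').2, sing_smul D hp.2.1] at h1
  simp only [mul_one, mul_zero, zero_mul, map_zero, hkl, hc, zero_smul, one_smul, add_zero, sub_zero] at h1
  have h2 := h1.sub h0
  rwa [add_sub_cancel_left] at h2

/-- a line vector is a centre -/
theorem centre_of_side (hs : ∀ v, v ≠ 0 → β D v v = 0 → Side D M v)
    (hoff : ∀ w p, HPair D w p → ∀ k l : K, D.χ (k * l) = 0 → Dir M (k • w) (l • p))
    {w : Vec} (hw0 : w ≠ 0) (hw : β D w w = 0) (k : K) : k • w ∈ Orth.centres M := by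
  refine ⟨sing_smul D hw k, fun x hu hux => ?_⟩
  suffices h : Dir M (k • w) x from h.mem
  obtain ⟨p, hp⟩ := exists_pair D hw0 hw
  have hlp : Dir M (k • w) (β D x w • p) := hoff w p hp k _ (by rw [spec', QuadraticMap.polar_comm]; exact hux)
  rw [pr_add D w p x]
  exact (hs w hw0 hw k _ (by
    simp [hw, β_comm D (pr D w p x) w, ((mem_W D).1 (pr_mem D hp x)).1])).add hlp

/-- everything, from the centres on all lines -/
theorem omega_le_of_parts (hM : LinM (K := K) M)
    (hside : ∀ v, v ≠ 0 → β D v v = 0 → Side D M v)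
    (hoff : ∀ w p, HPair D w p → ∀ k l : K, D.χ (k * l) = 0 → Dir M (k • w) (l • p)) : Cfsg.Omega F ⇑Q ≤ M := by
  have hline' : ∀ v, v ≠ 0 → β D v v = 0 → ∀ k : K, k • v ∈ Orth.centres M := fun v hv0 hv k =>
    centre_of_side D hside hoff hv0 hv k
  refine Orth.omega_le_of_centres D.hQ (by have := D.hn; omega) fun u hu0 hQu => ?_
  obtain ⟨v, -, hv, huv⟩ := exists_sing_meet D (nd_top D) (by rw [finrank_top]; have := D.hd; omega) (nd_top D u trivial hu0)
  have hv0 : v ≠ 0 := fun h => huv (by rw [h, map_zero])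
  obtain ⟨c, hc⟩ := exists_one D
  obtain ⟨q, hq⟩ := exists_pair D hv0 hv
  set s := c / β D u v with hs
  have hs0 : s ≠ 0 := div_ne_zero (fun e => by rw [e, map_zero] at hc; exact zero_ne_one hc) huv
  obtain ⟨he, hmove⟩ := Orth.exists_eich_move (Q := Q) (a := s • v) (u := (c / s) • q) (v := u)
    (sing_smul D hv s) (by rw [sing_smul D hq.2.1, hQu])
    (by rw [polar_smul_smul D, hq.pw D, mul_one, div_mul_cancel₀ _ hs0, hc])
    (by rw [← spec' D, hs, div_mul_cancel₀ _ huv, hc])
  exact hmove ▸ Orth.centres_map ((hline' v hv0 hv s).2 _ _ he) (hline' q (HPair.symm D hq).ne hq.2.1 _)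


include D in
/-- the main step -/
theorem omega_le (h4 : 4 ≤ Module.finrank K Vec) (h5 : 5 ≤ Module.finrank K Vec ∨ 3 ≤ Module.finrank F K) (hM : LinM (K := K) M) {g : Iso} (hg : g ∈ M)
    (hns : ¬ ∀ k : K, ∃ k' : K, ∀ x, act g (k • x) = k' • act g x) : Cfsg.Omega F ⇑Q ≤ M := by
  obtain ⟨g₁, w₁, w₁', hmax⟩ := exists_max D h4 hM hg hns
  obtain ⟨g₂, w, w', hmp, hperp⟩ := exists_good D h4 hM hmax
  obtain ⟨p, k₀, a, hp, hk₀, ha, hline, ⟨z', z, hP⟩, -⟩ := exists_line_root D h4 hM hmp hperp
  have hw0 := hp.ne D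
  have hfw := full_of_line D hM hp hk₀ hline
  have hfull : ∀ v, v ≠ 0 → β D v v = 0 → Full K M v := fun v hv0 hv => full_all D hM hw0 hp.1 hfw hv0 hv
  have hside : ∀ v, v ≠ 0 → β D v v = 0 → Side D M v := by
    by_cases h3 : 3 ≤ Module.finrank F K
    · exact fun v hv0 hv => side_of_three D h3 hfull hv0 hv
    · exact fun v hv0 hv => side_all D hM hw0 hp.1
        (side_of_two D hM (h5.resolve_right h3) (by have := two_le_r D; omega) hp hfw hk₀ ha hP) hv0 hv
  refine omega_le_of_parts D hM hside fun w p hp' k l hkl => ?_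
  by_cases h3 : 3 ≤ Module.finrank F K
  · exact off_of_three D h3 hfull hp' hkl
  · obtain ⟨b, hb, hb0, hbb⟩ := exists_iso D (S := W D w p)
      (by have := two_le_W D w p; have := h5.resolve_right h3; omega)
    exact off_of_side D hside hp' hb hb0 hbb hkl

/-- everything, from the root elements of one line, in rank at least three -/
theorem omega_le_of_line (h3 : 3 ≤ Module.finrank F K) (hM : LinM (K := K) M) {w p : Vec} (hp : HPair D w p) {k₀ : K}
    (hk₀ : k₀ ≠ 0) (hline : ∀ Y : K, Dir M (k₀ • w) (Y • w)) : Cfsg.Omega F ⇑Q ≤ M := by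
  have hfw := full_of_line D hM hp hk₀ hline
  have hfull : ∀ v, v ≠ 0 → β D v v = 0 → Full K M v := fun v hv0 hv => full_all D hM (hp.ne D) hp.1 hfw hv0 hv
  exact omega_le_of_parts D hM (fun v hv0 hv => side_of_three D h3 hfull hv0 hv) fun w p hp' k l hkl =>
    off_of_three D h3 hfull hp' hkl

end Cfsg.Agent.Forms.Max.OrthExtField
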