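import Mathlib
import Cfsg.Agent.Lib.Forms.Max.OrthExtField.Centres

/-!
# Rank two, Witt index one

Four dimensions over the quadratic extension, the orthogonal of a pair anisotropic.
-/

set_option autoImplicit false
set_option linter.unusedSectionVars false

namespace Cfsg.Agent.Forms.Max.OrthExtField

open Matrix Cfsg.Agent.Forms.QuadStd Cfsg.Agent.Forms.Reflections Cfsg.Agent.Classical.Orth
open Cfsg.Agent.Forms.Max.OrthBlocks (Dir)

variable {F : Type*} [Field F] [Fintype F] {ι : Type} [Fintype ι] [DecidableEq ι]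
variable {K : Type*} [Field K] [Algebra F K] [FiniteDimensional F K]
variable [Module K (ι → F)] [IsScalarTower F K (ι → F)]
variable {Q : QuadraticForm F (ι → F)}

local notation "Vec" => (ι → F)
local notation "B" => QuadraticMap.polar Q
set_option quotPrecheck false in
local notation "Iso" => Cfsg.isometryGroup F ⇑Q

variable (D : Data K Q) {M : Subgroup (Cfsg.isometryGroup F ⇑Q)}

/-- the orthogonal of every pair is anisotropic -/
def Aniso : Prop := ∀ w p, HPair D w p → ∀ x ∈ W D w p, β D x x = 0 → x = 0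

include D in
theorem ringChar_ne_two : ringChar K ≠ 2 := fun hc => two_ne D (by
  have : CharP K 2 := hc ▸ ringChar.charP K
  exact CharTwo.two_eq_zero)

include D in
theorem card_sq (hr2 : Module.finrank F K = 2) [Fintype K] : Fintype.card K = Fintype.card F * Fintype.card F := by
  rw [Module.card_eq_pow_finrank (K := F) (V := K), hr2, pow_two]

include D in
theorem odd_q : ∃ n, Fintype.card F = 2 * n + 1 := by
  obtain ⟨n, hn⟩ := Nat.odd_iff.2 (FiniteField.odd_card_of_char_ne_two (F := F) fun hc => D.h2 (by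
    have : CharP F 2 := hc ▸ ringChar.charP F
    exact CharTwo.two_eq_zero))
  exact ⟨n, hn⟩

include D in
theorem exists_neg_one (hr2 : Module.finrank F K = 2) : ∃ b : K, b * b = -1 := by
  haveI : Finite K := Module.finite_of_finite F
  haveI : Fintype K := Fintype.ofFinite K
  obtain ⟨b, hb⟩ : IsSquare (-1 : K) := FiniteField.isSquare_neg_one_iff.2 (by
    obtain ⟨m, hm⟩ := odd_q D
    rw [card_sq D hr2, hm, show (2 * m + 1) * (2 * m + 1) = 4 * (m * m + m) + 1 by ring]
    omega)
  exact ⟨b, hb.symm⟩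

include D in
/-- the Cayley transform of a scalar with square in the prime field is a square -/
theorem cayley_square (hr2 : Module.finrank F K = 2) {m : K} (hm : ∃ s : F, m * m = algebraMap F K s)
    (h1 : 1 + m ≠ 0) (h2 : 1 - m ≠ 0) : IsSquare ((1 + m) / (1 - m)) := by
  haveI : Finite K := Module.finite_of_finite F
  haveI : Fintype K := Fintype.ofFinite K
  obtain ⟨s, hs⟩ := hm
  obtain ⟨n, hn⟩ := odd_q D
  have hσ : ∀ x : K, FiniteField.frobeniusAlgHom F K x = x ^ Fintype.card F := fun x => rfl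
  set σ := FiniteField.frobeniusAlgHom F K
  have hm2 : σ m * σ m = m * m := by rw [← map_mul, hs, AlgHom.commutes]
  have hu : IsUnit (1 + m) := isUnit_iff_ne_zero.2 h1
  rcases mul_self_eq_mul_self_iff.1 hm2 with hp | hp
  · have hz : σ ((1 + m) / (1 - m)) = (1 + m) / (1 - m) := by rw [map_div₀, map_add, map_sub, map_one, hp]
    have hz0 : (1 + m) / (1 - m) ≠ 0 := div_ne_zero h1 h2
    rw [FiniteField.isSquare_iff (ringChar_ne_two D) hz0]
    set z := (1 + m) / (1 - m) with hzdef
    rw [hσ, hn, pow_succ] at hz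
    have hz1 : z ^ (2 * n) = 1 := (mul_eq_right₀ hz0).1 hz
    rw [card_sq D hr2, hn, show (2 * n + 1) * (2 * n + 1) / 2 = 2 * n * (n + 1) by
      rw [show (2 * n + 1) * (2 * n + 1) = 2 * (2 * n * (n + 1)) + 1 by ring]; omega, pow_mul, hz1, one_pow]
  · refine ⟨((1 + m) ^ n)⁻¹, ?_⟩
    have e : σ (1 + m) = 1 - m := by rw [map_add, map_one, hp, sub_eq_add_neg]
    rw [hσ, hn, pow_succ, two_mul, pow_add] at e
    rw [← e]
    field_simp

/-- the root element from a commutator with the involution -/
theorem dir_of_commutator (hr2 : Module.finrank F K = 2) (hM : LinM (K := K) M) {w p : Vec} (hp : HPair D w p)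
    {k₀ : K} {y : Vec} (hy : y ∈ W D w p)
    (hP : ∀ t : F, ∃ P ∈ M, InR D w p P fun k => -(D.χ (k₀ * k) • (t • y))) : Dir M (k₀ • w) y := by
  obtain ⟨b, hb⟩ := exists_neg_one D hr2
  obtain ⟨τ, hτ, hτw, hτp, hτW, -⟩ := exists_torus D hM hp (a := b) (fun e => by simp [e] at hb)
  have hτw' : ∀ k : K, act τ (k • w) = -(k • w) := fun k => by rw [hτw, hb, neg_one_mul, neg_smul]
  have hτp' : ∀ k : K, act τ (k • p) = -(k • p) := fun k => by
    have := hτp (-k)
    rwa [hb, neg_one_mul, neg_neg, neg_smul] at this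
  obtain ⟨hwy0, hpy0⟩ := (mem_W D).1 hy
  refine ⟨sing_smul D hp.1 k₀, by rw [← spec D, hwy0, mul_zero, map_zero],
    fun s hu hus => ?_⟩
  obtain ⟨P, hPM, hPw, hPp, hPk⟩ := hP (-(s / 2))
  set z : Vec := (-(s / 2)) • y with hz'
  have hzW : z ∈ W D w p := Submodule.smul_of_tower_mem _ _ hy
  obtain ⟨hwz, hpz⟩ := (mem_W D).1 hzW
  have hz : s • y = -(z + z) := by
    rw [hz', ← add_smul, ← neg_smul]
    congr 1
    field_simp [D.h2]
    ring
  suffices h : P * τ = eich (k₀ • w) (s • y) hu hus * τ * P by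
    have e : eich (k₀ • w) (s • y) hu hus = P * τ * P⁻¹ * τ⁻¹ := by rw [h]; group
    rw [e]
    exact mul_mem (mul_mem (mul_mem hPM hτ) (inv_mem hPM)) (inv_mem hτ)
  have hyw : ∀ k : K, B (k • w) z = 0 := fun k => by
    rw [spec D k w z |>.symm, hwz, mul_zero, map_zero]
  have hyp : ∀ k : K, B (k • p) z = 0 := fun k => by
    rw [spec D k p z |>.symm, hpz, mul_zero, map_zero]
  have hus' : B (k₀ • w) (-(z + z)) = 0 := hz ▸ hus
  rw [eich_congr hz hu hus]
  set X := eich (k₀ • w) (-(z + z)) hu hus'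
  have hXw : ∀ k : K, act X (k • w) = k • w := fun k =>
    act_eich_fix _ _ (polar_line D hp.1 _ _) (by rw [QuadraticMap.polar_neg_right, QuadraticMap.polar_add_right, hyw, add_zero, neg_zero])
  have hXW : ∀ d ∈ W D w p, act X d = d + (B d z + B d z) • k₀ • w := fun d hd => by
    rw [act_eich, ← spec' D, β_comm D d w, ((mem_W D).1 hd).1, mul_zero, map_zero,
      QuadraticMap.polar_neg_right, QuadraticMap.polar_add_right]
    module
  refine act_ext fun x => ?_
  rw [act_mul, act_mul, act_mul, pr_add D w p x]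
  simp only [map_add]
  congr 1
  · congr 1
    · simp only [hPw, hτw', map_neg, hXw]
    · set d := pr D w p x
      have hd := pr_mem D hp x
      obtain ⟨f, hf⟩ := hPp d (by rw [β_comm]; exact ((mem_W D).1 hd).1)
      have hf2 : f = B d z • k₀ := chi_ext D fun k => by
        obtain ⟨-, f', hf'⟩ := hPk k
        have h1 := act_polar P d (k • p)
        rw [hf, hf'] at h1
        have e1 : B d (f' • w) = 0 := by rw [← spec' D, β_comm, ((mem_W D).1 hd).1, mul_zero, map_zero]
        have e2 : B (f • w) (k • p) = D.χ (f * k) := by rw [polar_smul_smul D, hp.2.2, mul_one]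
        simp only [QuadraticMap.polar_add_left, QuadraticMap.polar_add_right, QuadraticMap.polar_neg_right,
          QuadraticMap.polar_smul_right, smul_eq_mul, hyw, e1, e2, polar_line D hp.1] at h1
        rw [mul_smul_comm, map_smul, smul_eq_mul, mul_comm k f, mul_comm k k₀]
        linear_combination h1
      rw [hτW d hd, hf, map_add, map_add, hτW d hd, hτw', map_neg, hXw, hXW d hd, hf2, smul_assoc]
      module
  · generalize β D x w = k
    obtain ⟨-, f, hf⟩ := hPk k
    rw [hτp', map_neg, hf]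
    simp only [map_add, map_neg, hτp', hτw', hXw]
    rw [map_smul (act τ) (D.χ (k₀ * k)), hτW z hzW, map_smul (act X) (D.χ (k₀ * k)), hXW z hzW, act_eich,
      polar_smul_smul D, hp.pw D, mul_one, QuadraticMap.polar_neg_right, QuadraticMap.polar_add_right, hyp,
      QuadraticMap.map_neg, Classical.Orth.map_add', polar_self', two_mul, mul_comm k k₀]
    module

theorem finrank_W_le (hani : Aniso D) {w p : Vec} (hp : HPair D w p) : Module.finrank K (W D w p) ≤ 2 := by
  by_contra h
  obtain ⟨x, hx, hx0, hxx⟩ := exists_iso D (S := W D w p) (by omega)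
  exact hx0 (hani w p hp x hx hxx)

/-- the squares of rotations of an anisotropic plane act irreducibly over the prime field -/
theorem rot_span (h4 : 4 ≤ Module.finrank K Vec) (hr2 : Module.finrank F K = 2) (hani : Aniso D) (hM : LinM (K := K) M)
    {w p : Vec} (hp : HPair D w p) {T : Submodule F Vec}
    (hT : ∀ g ∈ M, (∀ k : K, ∀ x, act g (k • x) = k • act g x) → act g w = w → ∀ x ∈ T, x ∈ W D w p → act g x ∈ T)
    {d : Vec} (hd : d ∈ W D w p) (hd0 : d ≠ 0) (hdT : d ∈ T) : ∀ x ∈ W D w p, x ∈ T := by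
  haveI : FiniteDimensional K Vec := Module.Finite.right F K Vec
  have hW := two_le_W D w p
  have hW2 := finrank_W_le D hani hp
  obtain ⟨e, he, he0, hek⟩ := exists_ker D (S := W D w p) ![d] (by omega)
  have hde : β D d e = 0 := hek 0
  set N := β D d d with hN
  set η := β D e e with hη
  have hN0 : N ≠ 0 := fun h => hd0 (hani w p hp d hd h)
  have hη0 : η ≠ 0 := fun h => he0 (hani w p hp e he h)
  obtain ⟨b, hb⟩ := exists_neg_one D hr2
  have hsq : ¬ IsSquare (η / N) := by
    rintro ⟨u, hu⟩
    have h0 := hani w p hp (e + (b * u) • d) (add_mem he (Submodule.smul_mem _ _ hd)) (by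
      simp only [map_add, map_smul, LinearMap.add_apply, LinearMap.smul_apply, smul_eq_mul, β_comm D e d, hde,
        ← hN, ← hη, mul_zero, add_zero, zero_add]
      rw [div_eq_iff hN0] at hu
      linear_combination hu + u * u * N * hb)
    have h1 := congrArg (fun x => β D e x) h0
    simp only [map_add, map_smul, smul_eq_mul, β_comm D e d, hde, ← hη, mul_zero, add_zero, map_zero] at h1
    exact hη0 h1
  have hsum : N + η ≠ 0 := fun h => hsq ⟨b, by
    rw [hb, div_eq_iff hN0]; linear_combination h⟩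
  set m := (η - N) / (N + η) with hm
  set c := 2 * N / (N + η) with hc
  have hc0 : c ≠ 0 := div_ne_zero (mul_ne_zero (two_ne D) hN0) hsum
  have hmc : c = 1 - m := by rw [hm, hc]; field_simp; ring
  have hm1 : 1 + m ≠ 0 := by
    rw [show 1 + m = 2 * η / (N + η) by rw [hm]; field_simp; ring]
    exact div_ne_zero (mul_ne_zero (two_ne D) hη0) hsum
  have hm2 : ∀ s : F, m * m ≠ algebraMap F K s := fun s hs => hsq (by
    have := cayley_square D hr2 ⟨s, hs⟩ hm1 (hmc ▸ hc0)
    rwa [← hmc, show 1 + m = 2 * η / (N + η) by rw [hm]; field_simp; ring, hc, div_div_div_cancel_right₀ hsum,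
      mul_div_mul_left _ _ (two_ne D)] at this)
  -- the two reflections
  have hrefl : ∀ v : Vec, β D v v ≠ 0 → ∃ r : Iso, ∀ x,
      act r x = (LinearMap.id - ((2 / β D v v) • (β D).flip v).smulRight v : Vec →ₗ[K] Vec) x := fun v hv =>
    exists_iso_elem D _ fun x y => by
      simp only [LinearMap.sub_apply, LinearMap.id_apply, LinearMap.smulRight_apply, LinearMap.smul_apply,
        LinearMap.flip_apply, map_sub, map_smul, smul_eq_mul, β_comm D v y]
      field_simp
      ring
  have hvv : β D (d + e) (d + e) = N + η := by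
    simp only [map_add, LinearMap.add_apply, β_comm D e d, hde, ← hN, ← hη, add_zero, zero_add]
  obtain ⟨δ, hδ⟩ := hrefl (d + e) (hvv ▸ hsum)
  obtain ⟨s, hs⟩ := hrefl d hN0
  obtain ⟨hwd, hpd⟩ := (mem_W D).1 hd
  obtain ⟨hwe, hpe⟩ := (mem_W D).1 he
  have hs' : ∀ u v : K, act s (u • d + v • e) = (-u) • d + v • e := fun u v => by
    rw [hs]
    simp only [LinearMap.sub_apply, LinearMap.id_apply, LinearMap.smulRight_apply, LinearMap.smul_apply,
      LinearMap.flip_apply, map_add, map_smul, LinearMap.add_apply, smul_eq_mul, β_comm D e d, hde, ← hN]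
    match_scalars <;> field_simp <;> ring
  have hδ' : ∀ u v : K, act δ (u • d + v • e) = (u * m - v * (1 + m)) • d + (-(u * c) - v * m) • e := fun u v => by
    rw [hδ]
    simp only [LinearMap.sub_apply, LinearMap.id_apply, LinearMap.smulRight_apply, LinearMap.smul_apply,
      LinearMap.flip_apply, hvv]
    simp only [map_add, map_smul, LinearMap.add_apply, LinearMap.smul_apply, smul_eq_mul, β_comm D e d, hde, ← hN, ← hη]
    rw [hm, hc]
    match_scalars <;> field_simp <;> ring
  have inv_of_invol : ∀ {r : Iso} {x : Vec}, act r (act r x) = x → act r⁻¹ x = act r x := fun {r x} h =>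
    act_injective r (by rw [act_cancel_inv, h])
  have hs2 : ∀ u v : K, act s⁻¹ (u • d + v • e) = (-u) • d + v • e := fun u v => by
    rw [inv_of_invol (by rw [hs', hs', neg_neg]), hs']
  have hδ2 : ∀ u v : K, act δ⁻¹ (u • d + v • e) = (u * m - v * (1 + m)) • d + (-(u * c) - v * m) • e := fun u v => by
    rw [inv_of_invol (by rw [hδ', hδ', hmc]; match_scalars <;> ring), hδ']
  set g := δ * s * δ⁻¹ * s⁻¹ with hgdef
  have hglin := lin_comm hδ hs
  have hgM : g ∈ M := hM _ (Subgroup.commutator_mem_commutator (Subgroup.mem_top _) (Subgroup.mem_top _)) hglin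
  have hg : ∀ u v : K, act g (u • d + v • e) =
      ((2 * m * m - 1) * u + 2 * m * (1 + m) * v) • d + (-(2 * m * c * u) + (2 * m * m - 1) * v) • e := fun u v => by
    rw [hgdef, act_mul, act_mul, act_mul, hs2, hδ2, hs', hδ', hmc]
    match_scalars <;> ring
  have hgw : act g w = w := by
    have f1 : act δ w = w := by rw [hδ]; simp [hwd, hwe]
    have f2 : act s w = w := by rw [hs]; simp [hwd]
    have f1' : act δ⁻¹ w = w := by rw [inv_of_invol (by rw [f1, f1]), f1]
    have f2' : act s⁻¹ w = w := by rw [inv_of_invol (by rw [f2, f2]), f2]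
    rw [hgdef, act_mul, act_mul, act_mul, f2', f1', f2, f1]
  have hgT := fun x hx => hT g hgM hglin hgw x hx
  set τ := 4 * m * m - 2 with hτ
  have hmem : ∀ u v : K, u • d + v • e ∈ W D w p := fun u v =>
    add_mem (Submodule.smul_mem _ _ hd) (Submodule.smul_mem _ _ he)
  set f := act g ((1 : K) • d + (0 : K) • e) with hf
  have e0 : (1 : K) • d + (0 : K) • e = d := by simp
  have hfT : f ∈ T := hgT _ (by rwa [e0]) (hmem _ _)
  have hfW : f ∈ W D w p := by rw [hf, hg]; exact hmem _ _
  have hgf : act g f = τ • f - d := by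
    rw [hf, hg, hg, hτ, hmc]
    match_scalars <;> ring
  have hτfT : τ • f ∈ T := by
    have := T.add_mem (hgT f hfT hfW) hdT
    rwa [hgf, sub_add_cancel] at this
  have hgτ : τ • (τ • f - d) ∈ T := by
    rw [← hgf, ← hglin]
    exact hgT _ hτfT (Submodule.smul_mem _ _ hfW)
  -- the extension is spanned by one and the trace
  have hτF : ∀ s : F, τ ≠ algebraMap F K s := fun s h => by
    refine hm2 ((s + 2) / 4) ?_
    have h4' : (4 : K) ≠ 0 := by
      rw [show (4 : K) = 2 * 2 by norm_num]; exact mul_ne_zero (two_ne D) (two_ne D)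
    rw [map_div₀, map_add, map_ofNat, map_ofNat, eq_div_iff h4']
    linear_combination h
  have hspan : ∀ x : K, ∃ a b : F, x = algebraMap F K a + b • τ := by
    intro x
    have hli : LinearIndependent F ![(1 : K), τ] := LinearIndependent.pair_iff.2 fun a b hab => by
      rcases eq_or_ne b 0 with rfl | hb0
      · simpa using hab
      · refine absurd ?_ (hτF (-a / b))
        rw [map_div₀, map_neg, eq_div_iff ((map_ne_zero _).2 hb0)]
        rw [Algebra.smul_def, Algebra.smul_def, mul_one] at hab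
        linear_combination hab
    have htop : x ∈ Submodule.span F (Set.range ![(1 : K), τ]) := by
      rw [hli.span_eq_top_of_card_eq_finrank (by rw [hr2]; rfl)]
      trivial
    obtain ⟨cf, hcf⟩ := (Submodule.mem_span_range_iff_exists_fun F).1 htop
    refine ⟨cf 0, cf 1, ?_⟩
    rw [← hcf, Fin.sum_univ_two, Algebra.algebraMap_eq_smul_one]
    rfl
  have hτd : τ • d ∈ T := by
    obtain ⟨a, a', ha⟩ := hspan (τ * τ)
    have e1 : τ • d = a • f + a' • (τ • f) - τ • (τ • f - d) := by
      rw [smul_sub, smul_smul τ τ f, ha, add_smul, algebraMap_smul, smul_assoc]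
      abel
    rw [e1]
    exact T.sub_mem (T.add_mem (T.smul_mem _ hfT) (T.smul_mem _ hτfT)) hgτ
  have hline : ∀ x : K, x • d ∈ T ∧ x • f ∈ T := fun x => by
    obtain ⟨a, a', rfl⟩ := hspan x
    simp only [add_smul, algebraMap_smul, smul_assoc]
    exact ⟨T.add_mem (T.smul_mem _ hdT) (T.smul_mem _ hτd), T.add_mem (T.smul_mem _ hfT) (T.smul_mem _ hτfT)⟩
  have hne : ∀ t : K, t • d ≠ f := fun t h => by
    have h1 := congrArg (fun x => β D e x) h
    simp only [hf, hg, map_add, map_smul, smul_eq_mul, β_comm D e d, hde, ← hη, mul_one, mul_zero, add_zero,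
      zero_add] at h1
    have hm0 : m ≠ 0 := fun h0 => hm2 0 (by rw [h0, mul_zero, map_zero])
    exact mul_ne_zero (mul_ne_zero (mul_ne_zero (two_ne D) hm0) hc0) hη0 (by linear_combination h1)
  intro x hx
  have hli : LinearIndependent K ![(⟨d, hd⟩ : W D w p), ⟨f, hfW⟩] :=
    (LinearIndependent.pair_iff' (fun h => hd0 (congrArg Subtype.val h))).2 fun t h => hne t (congrArg Subtype.val h)
  have htop : (⟨x, hx⟩ : W D w p) ∈ Submodule.span K (Set.range ![(⟨d, hd⟩ : W D w p), ⟨f, hfW⟩]) := by
    rw [hli.span_eq_top_of_card_eq_finrank (by simp; omega)]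
    trivial
  obtain ⟨cf, hcf⟩ := (Submodule.mem_span_range_iff_exists_fun K).1 htop
  have e1 := congrArg Subtype.val hcf
  simp only [Fin.sum_univ_two, Submodule.coe_add, Submodule.coe_smul, cons_val_zero, cons_val_one] at e1
  rw [← e1]
  exact T.add_mem (hline _).1 (hline _).2

/-- beside a line -/
theorem side_aniso (h4 : 4 ≤ Module.finrank K Vec) (hr2 : Module.finrank F K = 2) (hani : Aniso D)
    (hM : LinM (K := K) M) {w p : Vec} (hp : HPair D w p) (hfull : Full K M w) {k₀ : K} {y : Vec}
    (hy : y ∈ W D w p) (hy0 : y ≠ 0) (hd : Dir M (k₀ • w) y) (hk₀ : k₀ ≠ 0) : Side D M w := by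
  let T : K → Submodule F Vec := fun k =>
    { carrier := {x | Dir M (k • w) x}
      zero_mem' := dir_zero (sing_smul D hp.1 k)
      add_mem' := fun hx hx' => hx.add hx'
      smul_mem' := fun c _ hx => hx.smul c }
  have hrot : ∀ k : K, ∀ d ∈ W D w p, d ≠ 0 → Dir M (k • w) d → ∀ x ∈ W D w p, Dir M (k • w) x :=
    fun k d hdW hd0 hdk => rot_span D h4 hr2 hani hM hp (T := T k) (fun g hg hglin hgw x hx _ => by
      have h1 := Dir.map (show Dir M (k • w) x from hx) hg
      rwa [hglin, hgw] at h1) hdW hd0 hdk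
  have h0 := hrot k₀ y hy hy0 hd
  obtain ⟨e, he, he0, hee⟩ : ∃ e ∈ W D w p, e ≠ 0 ∧ Q e = 0 := by
    obtain ⟨e, he, he0, hee⟩ := Orth.exists_sing D.hQ (S := (W D w p).restrictScalars F) (by
      rw [finrank_restrict, hr2]
      have := two_le_W D w p
      omega)
    exact ⟨e, he, he0, hee⟩
  have hall : ∀ k : K, Dir M (k • w) e := by
    intro k
    obtain ⟨u, u', hu⟩ := exists_two_squares D (k / k₀)
    have hsq : ∀ u : K, Dir M e ((u * u * k₀) • w) := by
      intro u
      rcases eq_or_ne u 0 with rfl | hu0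
      · simpa using dir_zero (M := M) hee
      obtain ⟨g, hg, hgw, -, hgW, -⟩ := exists_torus D hM hp hu0
      have h1 := ((h0 e he).flip hee).map hg
      rwa [hgw, hgW e he] at h1
    have := (hsq u).add (hsq u')
    rw [← add_smul, ← add_mul, hu, div_mul_cancel₀ _ hk₀] at this
    exact this.flip (sing_smul D hp.1 k)
  exact side_of_parts D hp hfull fun k d hdW => hrot k e he he0 (hall k) d hdW

/-- off a line, from the sides -/
theorem off_of_aniso (hside : ∀ v, v ≠ 0 → β D v v = 0 → Side D M v) (h4 : 4 ≤ Module.finrank K Vec) {w p : Vec}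
    (hp : HPair D w p) {k l : K} (hkl : D.χ (k * l) = 0) : Dir M (k • w) (l • p) := by
  haveI : Nontrivial K := inferInstance
  obtain ⟨x, hx, hx0, -⟩ := exists_ker D (S := W D w p) (fun i : Fin 0 => i.elim0) (by
    have := two_le_W D w p; omega)
  obtain ⟨s, hs, hxs⟩ := nd_W D hp x hx hx0
  obtain ⟨c, hc⟩ := exists_one D
  set d' : Vec := (c / β D x s) • s with hd'
  have hd'W : d' ∈ W D w p := Submodule.smul_mem _ _ hs
  obtain ⟨hwx, hpx⟩ := (mem_W D).1 hx
  obtain ⟨hwd, hpd⟩ := (mem_W D).1 hd'W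
  have hxd : B x d' = 1 := by
    rw [B_eq D, hd', map_smul, smul_eq_mul, div_mul_cancel₀ _ hxs, hc]
  have hX := hside p (HPair.symm D hp).ne hp.2.1 l d' (by rw [β_comm]; exact hpd)
  have h0 := hside w (hp.ne D) hp.1 k x (by rw [β_comm]; exact hwx)
  have h1 := h0.map hX.mem
  have a1 : B (k • w) d' = 0 := by rw [← spec D, hwd, mul_zero, map_zero]
  have a2 : B (k • w) (l • p) = 0 := by rw [polar_smul_smul D, hp.2.2, mul_one, hkl]
  have a3 : B x (l • p) = 0 := by rw [← spec' D, β_comm, hpx, mul_zero, map_zero]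
  rw [act_eich, act_eich, a1, a2, a3, hxd] at h1
  simp only [zero_smul, mul_zero, zero_mul, one_smul, add_zero, sub_zero] at h1
  have h2 := h0.sub h1
  rwa [sub_sub_cancel] at h2

include D in
/-- the main step -/
theorem omega_le_aniso (h4 : 4 ≤ Module.finrank K Vec) (hr2 : Module.finrank F K = 2) (hani : Aniso D)
    (hM : LinM (K := K) M) {g : Iso} (hg : g ∈ M)
    (hns : ¬ ∀ k : K, ∃ k' : K, ∀ x, act g (k • x) = k' • act g x) : Cfsg.Omega F ⇑Q ≤ M := by
  obtain ⟨g₁, w₁, w₁', hmax⟩ := exists_max D h4 hM hg hns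
  obtain ⟨g₂, w, w', hmp, hperp⟩ := exists_good D h4 hM hmax
  obtain ⟨p, k₀, a, hp, hk₀, ha, hline, -, z, hzW, hz0, hP⟩ := exists_line_root D h4 hM hmp hperp
  have hw0 := hp.ne D
  have hfw := full_of_line D hM hp hk₀ hline
  obtain ⟨v, hv, hv0, hvk⟩ := exists_ker D (S := W D w p) ![z] (by have := two_le_W D w p; omega)
  have hvz : β D v z = 0 := by rw [β_comm]; exact hvk 0
  obtain ⟨c, hc, s, hP'⟩ := hP v hv hvz
  have hyW : (a * c) • v + s • z ∈ W D w p :=
    Submodule.add_mem _ (Submodule.smul_mem _ _ hv) (Submodule.smul_of_tower_mem _ _ hzW)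
  have hy0 : (a * c) • v + s • z ≠ 0 := fun h => by
    have h1 := congrArg (β D v) h
    simp only [map_add, map_smul, LinearMap.map_smul_of_tower, smul_eq_mul, hvz, smul_zero, add_zero, map_zero] at h1
    exact mul_ne_zero (mul_ne_zero ha hc) (fun h2 => hv0 (hani w p hp v hv h2)) h1
  have hside : ∀ u, u ≠ 0 → β D u u = 0 → Side D M u := fun u hu0 hu => side_all D hM hw0 hp.1
    (side_aniso D h4 hr2 hani hM hp hfw hyW hy0 (dir_of_commutator D hr2 hM hp hyW hP') hk₀) hu0 hu
  exact omega_le_of_parts D hM hside fun w' p' hp' k l hkl => off_of_aniso D hside h4 hp' hkl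

end Cfsg.Agent.Forms.Max.OrthExtField
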