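import Mathlib
import Cfsg.Agent.Lib.Forms.Max.OrthExtField.Aniso
import Cfsg.Agent.Lib.Forms.Max.OrthExtField.Rank3.Main

/-!
# Normalisers of self-adjoint subfields are maximal in the orthogonal group, odd characteristic
-/

set_option autoImplicit false
set_option linter.unusedSectionVars false

namespace Cfsg.Agent.Forms.Max.OrthExtField

open Matrix Cfsg.Agent.Forms.QuadStd Cfsg.Agent.Forms.Reflections Cfsg.Agent.Classical.Orth

section

variable {F : Type*} [Field F] [Fintype F] {ι : Type} [Fintype ι] [DecidableEq ι]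
variable {K : Type*} [Field K] [Algebra F K] [FiniteDimensional F K]
variable [Module K (ι → F)] [IsScalarTower F K (ι → F)]
variable {Q : QuadraticForm F (ι → F)}

/-- some root element is not semilinear -/
theorem exists_not_semilinear (D : Data K Q) : ∃ g ∈ Cfsg.Omega F ⇑Q,
    ¬ ∀ k : K, ∃ k' : K, ∀ x : ι → F, act g (k • x) = k' • act g x := by
  have hd := D.hd
  obtain ⟨w, -, hw0, hw⟩ := exists_iso D (S := (⊤ : Submodule K (ι → F))) (by rw [finrank_top]; omega)
  obtain ⟨p, hp⟩ := exists_pair D hw0 hw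
  obtain ⟨i, hi⟩ := exists_one D
  obtain ⟨l, hl, hl0⟩ : ∃ l : K, D.χ l = 0 ∧ l ≠ 0 := by
    obtain ⟨l, hl, hl0⟩ := (Submodule.ne_bot_iff _).1 (show LinearMap.ker D.χ ≠ ⊥ from fun h => by
      have h1 := D.χ.finrank_range_add_finrank_ker
      have h2 := Submodule.finrank_le (LinearMap.range D.χ)
      rw [Module.finrank_self] at h2
      rw [h, finrank_bot] at h1
      have := two_le_r D
      omega)
    exact ⟨l, hl, hl0⟩
  have hu := sing_smul D hw i
  have hul := polar_line D hw i l
  refine ⟨eich (i • w) (l • w) hu hul, Orth.eich_omega D.hQ (by have := D.hn; omega) hu hul, fun hs => ?_⟩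
  set X := eich (i • w) (l • w) hu hul
  obtain ⟨k', hk⟩ := hs (i / l)
  have hXw : ∀ c : K, act X (c • w) = c • w := fun c =>
    act_eich_fix _ _ (polar_line D hw _ _) (polar_line D hw _ _)
  have e1 := hk w
  rw [hXw, show act X w = w by simpa using hXw 1] at e1
  obtain rfl : i / l = k' := smul_left_injective K hw0 e1
  have e2 := hk p
  rw [act_eich, act_eich, sing_smul D hw l, polar_smul_smul D, polar_smul_smul D, ← spec' D, ← spec' D, hp.pw D,
    mul_one, mul_one, mul_one, mul_one, hi, hl, div_mul_cancel₀ _ hl0, hi] at e2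
  have e3 := congrArg (fun x => D.χ (β D x p)) e2
  simp only [zero_mul, zero_smul, sub_zero, one_smul, map_add, map_sub, LinearMap.add_apply, LinearMap.sub_apply,
    LinearMap.map_smul_of_tower, map_smul, LinearMap.smul_apply, smul_eq_mul, hp.2.1, hp.2.2, mul_zero, mul_one,
    zero_add, map_zero, smul_add, hi, hl, div_mul_cancel₀ _ hl0] at e3
  exact D.h2 (by linear_combination -e3)

end

/-- maximality -/
theorem maximal {F : Type*} [Field F] [Fintype F] {ι : Type} [Fintype ι] [DecidableEq ι] (Qf : (ι → F) → F)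
    (hQf : Cfsg.Geo.IsNondegenerateQuadraticForm Qf) (hodd : Odd (Fintype.card F)) (hn : 8 ≤ Fintype.card ι) (r : ℕ)
    (hr : r.Prime) (hd : ∀ d, r * d = Fintype.card ι → 4 ≤ d ∧ (5 ≤ d ∨ 3 ≤ r) ∨ d = 3 ∧ 3 ≤ r ∨
      d = 4 ∧ r = 2 ∧ ∀ T : Submodule F (ι → F), (∀ x ∈ T, Qf x = 0) → Module.finrank F T ≠ 4)
    (K : Subalgebra F (Matrix ι ι F)) (hK : Cfsg.Geo.IsFieldSubalgebra r K)
    (hsa : Cfsg.Geo.IsSelfAdjointFor (QuadraticMap.polar Qf) K) :
    Cfsg.Geo.IsMaximalIn (Cfsg.Geo.omegaGL Qf) (Cfsg.Geo.subalgebraNormalizer K ⊓ Cfsg.Geo.omegaGL Qf) := by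
  classical
  obtain ⟨R, rfl, hR⟩ := Orth.exists_form hQf
  haveI : Nonempty ι := Fintype.card_pos_iff.1 (by omega)
  have hfield : IsField K :=
    { exists_pair_ne := ⟨0, 1, zero_ne_one⟩
      mul_comm := fun x y => Subtype.ext (hK.comm x.1 x.2 y.1 y.2)
      mul_inv_cancel := fun {x} hx => by
        obtain ⟨y, hy, e⟩ := hK.inv x.1 x.2 fun h => hx (Subtype.ext h)
        exact ⟨⟨y, hy⟩, Subtype.ext e⟩ }
  letI : Field K := hfield.toField
  haveI : FiniteDimensional F K := Module.finite_of_finrank_pos (by rw [hK.finrank_eq]; exact hr.pos)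
  letI : Module K (ι → F) :=
    { smul := fun k x => (k : Matrix ι ι F) *ᵥ x
      one_smul := fun x => Matrix.one_mulVec x
      mul_smul := fun k k' x => (Matrix.mulVec_mulVec x _ _).symm
      smul_zero := fun k => Matrix.mulVec_zero _
      smul_add := fun k x y => Matrix.mulVec_add _ x y
      add_smul := fun k k' x => Matrix.add_mulVec _ _ x
      zero_smul := fun x => Matrix.zero_mulVec x }
  haveI : IsScalarTower F K (ι → F) := ⟨fun s k x => Matrix.smul_mulVec s _ x⟩
  have hdim : Module.finrank F K = r := hK.finrank_eq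
  have hmul := Module.finrank_mul_finrank F K (ι → F)
  rw [hdim, Module.finrank_fintype_fun_eq_card] at hmul
  have hr0 := hr.pos
  obtain ⟨χ, hχ⟩ : ∃ χ : K →ₗ[F] F, χ ≠ 0 := by
    let e := Module.finBasisOfFinrankEq F K hdim
    refine ⟨e.coord ⟨0, hr.pos⟩, fun h => ?_⟩
    have := LinearMap.congr_fun h (e ⟨0, hr.pos⟩)
    simp at this
  let D : Data K R :=
    { χ := χ, hχ := hχ, hr := hdim.symm ▸ hr
      h2 := fun h => by
        have h1 : ringChar F = 2 := CharP.ringChar_of_prime_eq_zero Nat.prime_two (by exact_mod_cast h)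
        have := FiniteField.even_card_of_char_two h1
        rw [Nat.odd_iff] at hodd
        omega
      hQ := hR
      hd := by rcases hd _ hmul with h | h | h <;> omega
      hn := hn
      hadj := fun k x y => hsa k.1 k.2 x y }
  have hN : ∀ g : Cfsg.isometryGroup F ⇑R, (g : GL ι F) ∈ Cfsg.Geo.subalgebraNormalizer K ↔
      ∀ k : K, ∃ k' : K, ∀ x : ι → F, act g (k • x) = k' • act g x := by
    intro g
    simp only [act_apply]
    obtain ⟨g, hg⟩ := g
    constructor
    · intro hg k
      refine ⟨⟨_, (hg k.1).1 k.2⟩, fun x => ?_⟩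
      show (g : Matrix _ _ F) *ᵥ (k.1 *ᵥ x) = (_ * k.1 * _) *ᵥ ((g : Matrix _ _ F) *ᵥ x)
      rw [← Matrix.mulVec_mulVec, ← Matrix.mulVec_mulVec, Max.inv_mulVec_cancel]
    · intro h
      choose σ hσ using h
      have hconj : ∀ k : K, (g : Matrix ι ι F) * k.1 * ((g⁻¹ : GL ι F) : Matrix ι ι F) = (σ k).1 := fun k =>
        Matrix.ext_of_mulVec_single fun i => by
          rw [← Matrix.mulVec_mulVec, ← Matrix.mulVec_mulVec]
          exact (hσ k _).trans (congrArg (fun x => (σ k).1 *ᵥ x) (Max.mulVec_inv_cancel g _))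
      haveI : Finite K := Module.finite_of_finite F
      have hinj : Function.Injective σ := fun a b e => Subtype.ext ((Units.mul_right_inj g).1
        ((Units.mul_left_inj g⁻¹).1 (by rw [hconj, hconj, e])))
      refine fun z => ⟨fun hz => hconj ⟨z, hz⟩ ▸ (σ ⟨z, hz⟩).2, fun hz => ?_⟩
      obtain ⟨k, hk⟩ := Finite.injective_iff_surjective.1 hinj ⟨_, hz⟩
      have e := hconj k
      rw [hk] at e
      exact (Units.mul_right_inj g).1 ((Units.mul_left_inj g⁻¹).1 e) ▸ k.2
  refine Max.isMaximalIn_of inf_le_right (fun hle => ?_) fun N hN' hNK g hgN hg => ?_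
  · obtain ⟨g, hg, hg'⟩ := exists_not_semilinear D
    exact hg' ((hN g).1 (hle (Subgroup.mem_map_of_mem _ hg)).1)
  · obtain ⟨g', hg', rfl⟩ := Subgroup.mem_map.1 (hNK hgN)
    have hle : Cfsg.Omega F ⇑R ≤ N.comap (Cfsg.isometryGroup F ⇑R).subtype ⊓ Cfsg.Omega F ⇑R := by
      have hL : LinM (K := K) (N.comap (Cfsg.isometryGroup F ⇑R).subtype ⊓ Cfsg.Omega F ⇑R) := fun h hh hlin =>
        ⟨hN' ⟨(hN h).2 fun k => ⟨k, hlin k⟩, Subgroup.mem_map_of_mem _ hh⟩, hh⟩
      have hns : ¬ ∀ k : K, ∃ k' : K, ∀ x : ι → F, act g' (k • x) = k' • act g' x := fun h =>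
        hg ⟨(hN g').2 h, hNK hgN⟩
      rcases hd _ hmul with ⟨h4, h5⟩ | ⟨h3, h5⟩ | ⟨hd4, hr2, hno⟩
      · exact omega_le D h4 (h5.imp id fun h => by rwa [hdim]) hL (g := g') ⟨hgN, hg'⟩ hns
      · exact Rank3.omega_le_three D hL h3 (by rwa [hdim]) inf_le_right (g := g') ⟨hgN, hg'⟩ hns
      · refine omega_le_aniso D hd4.ge (hdim.trans hr2) (fun w p hp x hx hxx => ?_) hL (g := g') ⟨hgN, hg'⟩ hns
        by_contra hx0
        obtain ⟨hwx, hpx⟩ := (mem_W D).1 hx
        let T₀ : Submodule K (ι → F) := Submodule.span K {w, x}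
        refine hno (T₀.restrictScalars F) (fun y hy => sing_of_β D ?_) ?_
        · obtain ⟨u, v, rfl⟩ := Submodule.mem_span_pair.1 hy
          simp [hp.1, hwx, hxx, β_comm D x w]
        · have hli : LinearIndependent K ![w, x] := (LinearIndependent.pair_iff' (hp.ne D)).2 fun t ht => by
            rw [← ht, map_smul, hp.pw D, smul_eq_mul, mul_one] at hpx
            exact hx0 (by rw [← ht, hpx, zero_smul])
          rw [finrank_restrict, hdim, hr2]
          have e : Module.finrank K T₀ = 2 := by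
            have := finrank_span_eq_card hli
            rwa [Matrix.range_cons, Matrix.range_cons, Matrix.range_empty, Set.union_empty, Set.singleton_union,
              Fintype.card_fin] at this
          rw [e]
    intro x hx
    obtain ⟨x', hx', rfl⟩ := Subgroup.mem_map.1 hx
    exact (hle hx').1

end Cfsg.Agent.Forms.Max.OrthExtField
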